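import Cfsg.Agent.H91.OddProd.Blocks
import Cfsg.Agent.Cores.GlaubermanZStar
import Cfsg.Agent.S0205

/-!
A conjugation invariant set of involutions whose products have order `1`, `2` or a fixed prime
`p ≥ 5` generates a solvable group.
-/

set_option autoImplicit false

namespace Cfsg.Agent.H91.OddProd

open Subgroup MulAction Cfsg

universe u

theorem orderOf_two {G : Type*} [Group G] {x : G} (h : x * x = 1) (h1 : x ≠ 1) : orderOf x = 2 := by
  haveI : Fact (Nat.Prime 2) := ⟨Nat.prime_two⟩
  exact orderOf_eq_prime (by rw [sq, h]) h1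

/-- An involution which commutes with no other conjugate is central, if the solvable radical is
trivial. -/
theorem central_of_isolated {G : Type u} [Group G] [Finite G]
    (hrad : ∀ N : Subgroup G, N.Normal → Group.IsSolvable N → N = ⊥) {x : G}
    (hx : orderOf x = 2) (hiso : ∀ g : G, Commute x (g * x * g⁻¹) → g * x * g⁻¹ = x) :
    ∀ g : G, Commute x g := by
  classical
  haveI : Fact (Nat.Prime 2) := ⟨Nat.prime_two⟩
  have hz : IsPGroup 2 (zpowers x) := by
    refine IsPGroup.of_card_dvd_pow (n := 1) ?_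
    rw [Nat.card_zpowers, hx, pow_one]
  obtain ⟨P, hP⟩ := hz.exists_le_sylow
  have hxP : x ∈ P := hP (mem_zpowers x)
  -- `x` is central in `P`
  have hcenP : ∀ w ∈ P, Commute x w := by
    haveI : Group.IsNilpotent (P : Subgroup G) := P.isPGroup'.isNilpotent
    set H : Subgroup (P : Subgroup G) := centralizer ({⟨x, hxP⟩} : Set (P : Subgroup G)) with hH
    have hHtop : H = ⊤ := by
      by_contra hne
      obtain ⟨n, hnN, hnH⟩ := SetLike.exists_of_lt
        (normalizerCondition_of_isNilpotent H (lt_top_iff_ne_top.mpr hne))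
      have hxH : (⟨x, hxP⟩ : (P : Subgroup G)) ∈ H := mem_centralizer_singleton_iff.mpr rfl
      have h1 := mem_centralizer_singleton_iff.mp ((mem_normalizer_iff.mp hnN _).mp hxH)
      have h2 : Commute x ((n : G) * x * (n : G)⁻¹) := (congrArg Subtype.val h1).symm
      have h3 := mul_inv_eq_iff_eq_mul.mp (hiso _ h2)
      exact hnH (mem_centralizer_singleton_iff.mpr (Subtype.ext h3))
    intro w hw
    have h1 : (⟨w, hw⟩ : (P : Subgroup G)) ∈ H := hHtop ▸ mem_top _
    exact (congrArg Subtype.val (mem_centralizer_singleton_iff.mp h1)).symm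
  intro g
  have hO := Cores.glaubermanZStar P hx hxP (fun k hk => hiso k (hcenP _ hk)) g
  haveI : (oddCore G).Characteristic := Cores.pPrimeCore_characteristic
  have hbot := hrad (oddCore G) inferInstance (S0205.result Cores.odd_card_oddCore)
  rw [hbot, mem_bot, mul_inv_eq_one, mul_inv_eq_iff_eq_mul] at hO
  exact hO

namespace MinCex

variable {G : Type u} [Group G] [Finite G] {p : ℕ} {D : Set G} (h : MinCex p D)
include h

theorem exists_pair : ∃ x ∈ D, ∃ a ∈ D, x ≠ a ∧ Commute x a := by
  by_contra hcon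
  push Not at hcon
  obtain ⟨a, ha, -⟩ := h.nonab
  refine h.ne_one a ha (h.eq_one_of_central fun d _ =>
    central_of_isolated h.rad (orderOf_two (h.inv a ha) (h.ne_one a ha)) ?_ d)
  intro g hc
  by_contra hne
  exact hcon a ha _ (h.conj a ha g) (Ne.symm hne) hc

theorem false : False := by
  classical
  obtain ⟨x, hx, a, ha, hne, hxa⟩ := h.exists_pair
  let St : Subgroup G :=
    { carrier := {g | Commute (g * a * g⁻¹) a}
      one_mem' := by simp
      mul_mem' := fun {g k} hg hk => by
        show Commute (g * k * a * (g * k)⁻¹) a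
        refine h.trans (h.conj a ha g) (h.conj a ha (g * k)) ha ?_ hg
        have := Commute.conj_iff g |>.mpr hk
        simpa [mul_assoc] using this
      inv_mem' := fun {g} hg => by
        show Commute (g⁻¹ * a * g⁻¹⁻¹) a
        have := Commute.conj_iff g⁻¹ |>.mpr hg
        rw [inv_inv] at this ⊢
        rw [show g⁻¹ * (g * a * g⁻¹) * g = a by group] at this
        exact this.symm }
  have memSt : ∀ {g : G}, g ∈ St ↔ Commute (g * a * g⁻¹) a := Iff.rfl
  let pt : G → G ⧸ St := fun d =>
    if hd : ∃ g : G, g * a * g⁻¹ = d then QuotientGroup.mk hd.choose else QuotientGroup.mk 1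
  have hex : ∀ d ∈ D, ∃ g : G, g * a * g⁻¹ = d := fun d hd => isConj_iff.mp (h.cls a ha d hd)
  have hpt : ∀ g : G, pt (g * a * g⁻¹) = QuotientGroup.mk g := by
    intro g
    have hd : ∃ k : G, k * a * k⁻¹ = g * a * g⁻¹ := ⟨g, rfl⟩
    simp only [pt, dif_pos hd]
    rw [QuotientGroup.eq, memSt]
    have h1 := hd.choose_spec
    set k := hd.choose
    have h2 : k⁻¹ * g * a * (k⁻¹ * g)⁻¹ = a := by
      calc k⁻¹ * g * a * (k⁻¹ * g)⁻¹ = k⁻¹ * (g * a * g⁻¹) * k := by group
        _ = a := by rw [← h1]; group
    rw [h2]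
  have equiv : ∀ g : G, ∀ d ∈ D, pt (g * d * g⁻¹) = g • pt d := by
    intro g d hd
    obtain ⟨k, rfl⟩ := hex d hd
    rw [show g * (k * a * k⁻¹) * g⁻¹ = g * k * a * (g * k)⁻¹ by group, hpt, hpt,
      MulAction.Quotient.smul_mk, smul_eq_mul]
  have comm : ∀ c ∈ D, ∀ d ∈ D, Commute c d ↔ pt c = pt d := by
    intro c hc d hd
    obtain ⟨k, rfl⟩ := hex c hc
    obtain ⟨l, rfl⟩ := hex d hd
    rw [hpt, hpt, QuotientGroup.eq, memSt, ← Commute.conj_iff k⁻¹,
      show k⁻¹ * (k * a * k⁻¹) * k⁻¹⁻¹ = a by group,
      show k⁻¹ * (l * a * l⁻¹) * k⁻¹⁻¹ = k⁻¹ * l * a * (k⁻¹ * l)⁻¹ by group]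
    exact ⟨Commute.symm, Commute.symm⟩
  have surj : ∀ ω : G ⧸ St, ∃ d ∈ D, pt d = ω := by
    intro ω
    obtain ⟨l, rfl⟩ := QuotientGroup.mk_surjective ω
    exact ⟨_, h.conj a ha l, hpt l⟩
  have fix : ∀ d ∈ D, ∀ ω : G ⧸ St, d • ω = ω ↔ pt d = ω := by
    intro d hd ω
    obtain ⟨b, hb, rfl⟩ := surj ω
    have hdi := h.inv d hd
    have hbi := h.inv b hb
    rw [← equiv d b hb, ← comm _ (h.conj b hb d) b hb, ← comm d hd b hb, inv_self hdi]
    constructor
    · intro hc
      by_contra hn
      have hi : d * b * d * (d * b * d) = 1 := by simp [mul_assoc, mul_cancel hdi, mul_cancel hbi, hdi]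
      have h1 := sq_of_commute hi hbi hc
      have h2 : d * b * d * b = (d * b) * (d * b) := by group
      rw [h2] at h1
      have hp := h.pow_of_not hd hb hn
      have h3 := eq_one_of_pow_of_sq h.odd h1 (by
        rw [← sq, ← pow_mul, mul_comm, pow_mul, hp, one_pow])
      exact hn (commute_of_sq hdi hbi h3)
    · intro hc
      rw [hc.eq, mul_assoc, hdi, mul_one]
  exact h.false_of_blocks ⟨fix, equiv, comm, surj⟩ ⟨x, hx, a, ha, hne, hxa⟩

end MinCex

theorem isSolvable_closure_aux : ∀ (n : ℕ) {G : Type u} [Group G] [Finite G], Nat.card G = n →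
    ∀ {p : ℕ}, p.Prime → 5 ≤ p → ∀ D : Set G, (∀ d ∈ D, d * d = 1) →
      (∀ d ∈ D, ∀ g : G, g * d * g⁻¹ ∈ D) →
      (∀ a ∈ D, ∀ b ∈ D, Commute a b ∨ (a * b) ^ p = 1) → closure D = ⊤ → Group.IsSolvable G := by
  intro n
  induction n using Nat.strong_induction_on with
  | _ n ih =>
    intro G _ _ hn p hp h5 D hinv hconj hprod hgen
    by_contra hns
    have hsub : ∀ E ⊆ D, closure E ≠ ⊤ → Group.IsSolvable (closure E) := by
      intro E hE hne
      have hlt : Nat.card (closure E) < n := by
        rw [← hn]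
        refine lt_of_le_of_ne (card_le_card_group _) fun he => hne (eq_top_of_card_eq _ he)
      refine ih _ hlt rfl hp h5 {z : closure E | (z : G) ∈ D}
        (fun d hd => Subtype.ext (hinv _ hd)) (fun d hd g => hconj _ hd g)
        (fun a ha b hb => (hprod _ ha _ hb).imp (fun hh => Subtype.ext hh.eq)
          (fun hh => Subtype.ext (by simpa using hh))) ?_
      rw [eq_top_iff, ← closure_closure_coe_preimage (k := E)]
      exact closure_mono fun z hz => hE hz
    have hrad : ∀ N : Subgroup G, N.Normal → Group.IsSolvable N → N = ⊥ := by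
      intro N hN hNs
      by_contra hNb
      have hlt : Nat.card (G ⧸ N) < n := by
        rw [← hn, card_eq_card_quotient_mul_card_subgroup N]
        exact lt_mul_of_one_lt_right Nat.card_pos (one_lt_card_iff_ne_bot N |>.mpr hNb)
      set q := QuotientGroup.mk' N with hq
      have hqs : Function.Surjective q := QuotientGroup.mk'_surjective N
      have : Group.IsSolvable (G ⧸ N) := by
        refine ih _ hlt rfl hp h5 (q '' D) ?_ ?_ ?_ ?_
        · rintro _ ⟨d, hd, rfl⟩; rw [← map_mul, hinv d hd, map_one]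
        · rintro _ ⟨d, hd, rfl⟩ g
          obtain ⟨g, rfl⟩ := hqs g
          exact ⟨_, hconj d hd g, by simp⟩
        · rintro _ ⟨a, ha, rfl⟩ _ ⟨b, hb, rfl⟩
          exact (hprod a ha b hb).imp (fun hh => hh.map q)
            (fun hh => by rw [← map_mul, ← map_pow, hh, map_one])
        · rw [← MonoidHom.map_closure, hgen, map_top_of_surjective q hqs]
      exact hns ((Group.isSolvable_iff_subgroup_quotient N).mpr ⟨hNs, this⟩)
    -- a nontrivial member
    obtain ⟨a, ha, ha1⟩ : ∃ a ∈ D, a ≠ (1 : G) := by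
      by_contra hcon
      push Not at hcon
      refine hns (Group.isSolvable_of_top_eq_bot G ?_)
      rw [← hgen, closure_eq_bot_iff]
      exact hcon
    -- its class
    have hCD : conjugatesOf a ⊆ D := by
      intro z hz
      obtain ⟨g, rfl⟩ := isConj_iff.mp hz
      exact hconj a ha g
    have hCgen : closure (conjugatesOf a) = ⊤ := by
      by_contra hne
      have hn' : (normalClosure ({a} : Set G)).Normal := normalClosure_normal
      rw [normalClosure, Group.conjugatesOfSet, Set.biUnion_singleton] at hn'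
      have hb := hrad _ hn' (hsub _ hCD hne)
      rw [closure_eq_bot_iff] at hb
      exact ha1 (hb (IsConj.refl a))
    refine MinCex.false (p := p) (D := conjugatesOf a)
      { prime := hp
        five := h5
        inv := fun d hd => hinv d (hCD hd)
        ne_one := ?_
        conj := fun d hd g => (IsConj.trans hd (isConj_iff.mpr ⟨g, rfl⟩) : IsConj a _)
        cls := fun c hc d hd => (IsConj.symm hc).trans hd
        prod := fun c hc d hd => hprod c (hCD hc) d (hCD hd)
        gen := hCgen
        sub := fun E hE => hsub E (hE.trans hCD)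
        rad := hrad
        nonab := ?_ }
    · intro d hd h1
      subst h1
      exact ha1 (isConj_one_left.mp hd)
    · by_contra hcon
      push Not at hcon
      refine hns (Group.isSolvable_of_comm fun u v => ?_)
      have h1 : ∀ d ∈ conjugatesOf a, ∀ w : G, Commute d w := fun d hd w => by
        have hw : w ∈ closure (conjugatesOf a) := hCgen ▸ mem_top w
        have : closure (conjugatesOf a) ≤ centralizer ({d} : Set G) :=
          (closure_le _).mpr fun e he =>
            mem_centralizer_singleton_iff.mpr (hcon e he d hd).eq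
        exact (mem_centralizer_singleton_iff.mp (this hw)).symm
      have hu : u ∈ closure (conjugatesOf a) := hCgen ▸ mem_top u
      have : closure (conjugatesOf a) ≤ centralizer ({v} : Set G) :=
        (closure_le _).mpr fun e he => mem_centralizer_singleton_iff.mpr (h1 e he v).eq
      exact mem_centralizer_singleton_iff.mp (this hu)

/-- Involutions with all products of order `1`, `2` or `p ≥ 5` generate a solvable group. -/
theorem isSolvable_of_generated {G : Type u} [Group G] [Finite G] {p : ℕ} (hp : p.Prime)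
    (h5 : 5 ≤ p) {D : Set G} (hinv : ∀ d ∈ D, d * d = 1)
    (hconj : ∀ d ∈ D, ∀ g : G, g * d * g⁻¹ ∈ D)
    (hprod : ∀ a ∈ D, ∀ b ∈ D, Commute a b ∨ (a * b) ^ p = 1) (hgen : closure D = ⊤) :
    Group.IsSolvable G :=
  isSolvable_closure_aux _ rfl hp h5 D hinv hconj hprod hgen

end Cfsg.Agent.H91.OddProd
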