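import Mathlib

/-!
Small arithmetic and counting lemmas for the involution counting argument.
-/

set_option autoImplicit false

namespace Cfsg.Agent.H91.OddProd

theorem exists_odd_cofactor (p : ℤ) (hp : Odd p) (j : ℕ) :
    ∃ q : ℤ, Odd q ∧ p ^ (2 * j + 1) + 1 = (p + 1) * q := by
  induction j with
  | zero => exact ⟨1, odd_one, by ring⟩
  | succ j ih =>
    obtain ⟨q, hq, h⟩ := ih
    refine ⟨p ^ 2 * q - (p - 1), ?_, ?_⟩
    · exact ((hp.pow).mul hq).sub_even (hp.sub_odd odd_one)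
    · calc p ^ (2 * (j + 1) + 1) + 1 = p ^ 2 * (p ^ (2 * j + 1) + 1) - (p ^ 2 - 1) := by ring
        _ = p ^ 2 * ((p + 1) * q) - (p ^ 2 - 1) := by rw [h]
        _ = (p + 1) * (p ^ 2 * q - (p - 1)) := by ring

/-- If `p ^ k + 1` is a power of two, `p` odd and `k ≠ 0`, then `k = 1`. -/
theorem eq_one_of_pow_succ_two_pow {p k r : ℕ} (hp : Odd p) (h3 : 3 ≤ p) (hk : k ≠ 0)
    (h : p ^ k + 1 = 2 ^ r) : k = 1 := by
  rcases Nat.even_or_odd k with ⟨j, rfl⟩ | ⟨j, rfl⟩
  · exfalso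
    have h2 : 2 ≤ r := by
      by_contra hr
      have : p ^ (j + j) + 1 ≤ 2 := by
        rw [h]; calc 2 ^ r ≤ 2 ^ 1 := Nat.pow_le_pow_right (by omega) (by omega)
          _ = 2 := rfl
      have h4 : p ≤ p ^ (j + j) := Nat.le_self_pow hk p
      omega
    have h4 : 4 ∣ 2 ^ r := (Nat.pow_dvd_pow 2 h2)
    obtain ⟨i, hi⟩ := hp.pow (n := j)
    rw [← h, pow_add, hi] at h4
    have : (2 * i + 1) * (2 * i + 1) + 1 = 4 * (i * i + i) + 2 := by ring
    omega
  · obtain ⟨q, hq, hq'⟩ := exists_odd_cofactor (p : ℤ) (by exact_mod_cast hp) j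
    have hcast : ((p + 1 : ℕ) : ℤ) * q = ((2 ^ r : ℕ) : ℤ) := by
      rw [← h]; push_cast; linarith
    have hdvd : q.natAbs ∣ 2 ^ r := by
      refine Int.natCast_dvd_natCast.mp ?_
      rw [Int.natAbs_dvd]
      exact ⟨_, by rw [← hcast, mul_comm]⟩
    obtain ⟨s, -, hs⟩ := (Nat.dvd_prime_pow Nat.prime_two).mp hdvd
    have hodd : Odd q.natAbs := Int.natAbs_odd.mpr hq
    have hs0 : s = 0 := by
      by_contra hne
      rw [hs] at hodd
      exact (Nat.not_even_iff_odd.mpr hodd) ((Nat.even_pow' hne).mpr even_two)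
    rw [hs0, pow_zero] at hs
    have hp1 : p ^ (2 * j + 1) = p ^ 1 := by
      have hpos : (0 : ℤ) < (p : ℤ) ^ (2 * j + 1) + 1 := by positivity
      rcases Int.natAbs_eq_iff.mp hs with h1 | h1 <;> rw [h1] at hq' <;> push_cast at hq'
      · have : ((p ^ (2 * j + 1) : ℕ) : ℤ) = (p : ℤ) := by push_cast; linarith
        rw [pow_one]; exact_mod_cast this
      · nlinarith
    exact Nat.pow_right_injective (by omega : 2 ≤ p) hp1

/-- A fixed-point-free involution on a finite set forces even cardinality. -/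
theorem even_card_of_involution {α : Type*} (s : Finset α) (f : α → α)
    (hmem : ∀ a ∈ s, f a ∈ s) (hinv : ∀ a ∈ s, f (f a) = a) (hne : ∀ a ∈ s, f a ≠ a) :
    Even s.card := by
  have h := Finset.prod_involution (s := s) (f := fun _ => (-1 : ℤ)) (fun a _ => f a)
    (fun a _ => by norm_num) (fun a ha _ => hne a ha) hmem hinv
  rw [Finset.prod_const] at h
  exact (neg_one_pow_eq_one_iff_even (by norm_num)).mp h

end Cfsg.Agent.H91.OddProd
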