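import Cfsg.Agent.H91.OddProd.Tools

/-!
In a solvable group generated by involutions whose pairwise products have order `p` (or `1`), the
products generate a `p`-group and the number of these involutions is a power of `p`.
-/

set_option autoImplicit false

namespace Cfsg.Agent.H91.OddProd

open Subgroup
open scoped Pointwise

universe u

/-- The subgroup generated by all products of two members of `I`. -/
abbrev prods {X : Type u} [Group X] (I : Set X) : Subgroup X :=
  closure {g : X | ∃ a ∈ I, ∃ b ∈ I, g = a * b}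

theorem isPGroup_prods {p : ℕ} [hp : Fact p.Prime] (hodd : Odd p) :
    ∀ (n : ℕ) (X : Type u) [Group X] [Finite X], Nat.card X = n → Group.IsSolvable X →
      ∀ I : Set X, (∀ a ∈ I, a * a = 1) → (∀ a ∈ I, ∀ b ∈ I, (a * b) ^ p = 1) →
      (∀ a ∈ I, ∀ g : X, g * a * g⁻¹ ∈ I) → closure I = ⊤ → IsPGroup p (prods I) := by
  intro n
  induction n using Nat.strong_induction_on with
  | _ n ih =>
  intro X _ _ hn hsol I hinv hpow hconj hgen
  rcases subsingleton_or_nontrivial X with hX | hX
  · intro g; exact ⟨0, Subtype.ext (Subsingleton.elim _ _)⟩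
  classical
  have hex := (Group.isSolvable_def X).mp hsol
  set m := Nat.find hex with hm
  have hmspec : derivedSeries X m = ⊥ := Nat.find_spec hex
  have hm0 : m ≠ 0 := fun h0 => by
    rw [h0, derivedSeries_zero] at hmspec
    exact top_ne_bot hmspec
  set R₀ := derivedSeries X (m - 1) with hR₀
  haveI : R₀.Normal := derivedSeries_normal X (m - 1)
  have hR₀ne : R₀ ≠ ⊥ := Nat.find_min hex (show m - 1 < m by omega)
  have hR₀ab : ∀ a ∈ R₀, ∀ b ∈ R₀, a * b = b * a := by
    have h0 : ⁅R₀, R₀⁆ = ⊥ := by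
      rw [hR₀, ← derivedSeries_succ, show m - 1 + 1 = m by omega, hmspec]
    intro a ha b hb
    exact (mem_centralizer_iff.mp (commutator_eq_bot_iff_le_centralizer.mp h0 hb)) a ha
  -- passing to a quotient
  have hquot : ∀ (N : Subgroup X) [N.Normal], N ≠ ⊥ →
      IsPGroup p ((prods I).map (QuotientGroup.mk' N)) := by
    intro N _ hN
    have hlt : Nat.card (X ⧸ N) < n := by
      rw [← hn, N.card_eq_card_quotient_mul_card_subgroup]
      exact lt_mul_of_one_lt_right Nat.card_pos ((one_lt_card_iff_ne_bot _).mpr hN)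
    set q := QuotientGroup.mk' N
    have hq : Function.Surjective q := QuotientGroup.mk'_surjective N
    have h1 := ih _ hlt (X ⧸ N) rfl (Group.isSolvable_of_surjective hq) (q '' I)
      (by rintro _ ⟨a, ha, rfl⟩; rw [← map_mul, hinv a ha, map_one])
      (by rintro _ ⟨a, ha, rfl⟩ _ ⟨b, hb, rfl⟩; rw [← map_mul, ← map_pow, hpow a ha b hb, map_one])
      (by
        rintro _ ⟨a, ha, rfl⟩ g
        obtain ⟨g, rfl⟩ := hq g
        exact ⟨g * a * g⁻¹, hconj a ha g, by simp⟩)
      (by rw [← MonoidHom.map_closure, hgen, ← MonoidHom.range_eq_map,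
        MonoidHom.range_eq_top.mpr hq])
    refine h1.to_le ?_
    rw [MonoidHom.map_closure]
    refine closure_mono ?_
    rintro _ ⟨_, ⟨a, ha, b, hb, rfl⟩, rfl⟩
    exact ⟨q a, ⟨a, ha, rfl⟩, q b, ⟨b, hb, rfl⟩, map_mul q a b⟩
  let R : Subgroup X :=
    { carrier := {r | r ∈ R₀ ∧ ∃ k : ℕ, r ^ p ^ k = 1}
      one_mem' := ⟨one_mem _, 0, by simp⟩
      mul_mem' := by
        rintro a b ⟨ha, i, hi⟩ ⟨hb, j, hj⟩
        refine ⟨mul_mem ha hb, i + j, ?_⟩
        rw [(show Commute a b from hR₀ab a ha b hb).mul_pow, pow_add]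
        nth_rewrite 1 [pow_mul]
        rw [hi, one_pow, one_mul, mul_comm, pow_mul, hj, one_pow]
      inv_mem' := by
        rintro a ⟨ha, i, hi⟩
        exact ⟨inv_mem ha, i, by rw [inv_pow, hi, inv_one]⟩ }
  haveI hRn : R.Normal := ⟨fun r hr g => by
    refine ⟨Normal.conj_mem ‹R₀.Normal› r hr.1 g, ?_⟩
    obtain ⟨k, hk⟩ := hr.2
    exact ⟨k, by rw [conj_pow, hk, mul_one, mul_inv_cancel]⟩⟩
  by_cases hR : R = ⊥
  · -- the abelian normal subgroup is central
    have hcen : R₀ ≤ center X := by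
      intro r hr
      have hy : ∀ y ∈ I, r ∈ centralizer ({y} : Set X) := by
        intro y hy
        set c := y * (r * y * r⁻¹) with hc
        have hcR₀ : c ∈ R₀ := by
          rw [hc]
          have h1 := Normal.conj_mem ‹R₀.Normal› r hr y
          rw [inv_self (hinv y hy)] at h1
          simpa [mul_assoc] using mul_mem h1 (inv_mem hr)
        have hcR : c ∈ R := ⟨hcR₀, 1, by rw [pow_one]; exact hpow y hy _ (hconj y hy r)⟩
        rw [hR, mem_bot, hc, mul_eq_one_iff_eq_inv] at hcR
        rw [mem_centralizer_singleton_iff]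
        have h2 : r * y * r⁻¹ = y := by
          rw [← inv_inj, ← hcR, inv_self (hinv y hy)]
        exact mul_inv_eq_iff_eq_mul.mp h2
      rw [mem_center_iff]
      intro g
      have hg : g ∈ centralizer ({r} : Set X) := by
        refine (closure_le _).mpr ?_ (hgen ▸ mem_top g : g ∈ closure I)
        intro y hy'
        exact mem_centralizer_singleton_iff.mpr (mem_centralizer_singleton_iff.mp (hy y hy')).symm
      exact mem_centralizer_singleton_iff.mp hg
    have hmap := hquot R₀ hR₀ne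
    set f : prods I →* X ⧸ R₀ := (QuotientGroup.mk' R₀).comp (prods I).subtype
    have hker : f.rangeRestrict.ker ≤ center (prods I) := by
      intro z hz
      rw [MonoidHom.ker_rangeRestrict, MonoidHom.mem_ker] at hz
      have hz' : (z : X) ∈ R₀ := (QuotientGroup.eq_one_iff _).mp hz
      rw [mem_center_iff]
      intro w
      exact Subtype.ext (mem_center_iff.mp (hcen hz') (w : X))
    have hrange : IsPGroup p f.range := by
      refine hmap.to_le ?_
      rw [MonoidHom.range_comp, range_subtype]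
    haveI := hrange.isNilpotent
    haveI hnil : Group.IsNilpotent (prods I) := Subgroup.isNilpotent_of_ker_le_center f.rangeRestrict hker
    obtain ⟨P⟩ := (inferInstance : Nonempty (Sylow p (prods I)))
    haveI hPn : (P : Subgroup (prods I)).Normal :=
      (Group.isNilpotent_of_finite_tfae.out 0 3 rfl rfl).mp hnil p hp P
    have htop : (P : Subgroup (prods I)) = ⊤ := by
      have hsub : ∀ w : prods I, w ^ p = 1 → w ∈ (P : Subgroup (prods I)) := by
        intro w hw
        have hwp : IsPGroup p (zpowers w) := by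
          refine IsPGroup.of_card_dvd_pow (n := 1) ?_
          rw [Nat.card_zpowers, pow_one]
          exact orderOf_dvd_of_pow_eq_one hw
        obtain ⟨Q, hQ⟩ := hwp.exists_le_sylow
        haveI := Sylow.unique_of_normal P hPn
        exact (Subsingleton.elim Q P) ▸ hQ (mem_zpowers w)
      refine eq_top_iff.mpr fun w _ => ?_
      obtain ⟨w, hw⟩ := w
      suffices h : w ∈ ((P : Subgroup (prods I)).map (prods I).subtype) by
        obtain ⟨⟨v, hv⟩, hvP, rfl⟩ := h
        exact hvP
      refine (closure_le _).mpr ?_ hw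
      rintro _ ⟨a, ha, b, hb, rfl⟩
      refine ⟨⟨a * b, subset_closure ⟨a, ha, b, hb, rfl⟩⟩, hsub _ (Subtype.ext ?_), rfl⟩
      simpa using hpow a ha b hb
    intro w
    obtain ⟨k, hk⟩ := P.isPGroup' ⟨w, htop ▸ mem_top w⟩
    exact ⟨k, by simpa using congrArg Subtype.val hk⟩
  · intro w
    obtain ⟨k, hk⟩ := hquot R hR ⟨_, mem_map_of_mem _ w.2⟩
    have hk' := congrArg Subtype.val hk
    simp only [SubmonoidClass.coe_pow, OneMemClass.coe_one, ← map_pow] at hk'
    obtain ⟨-, j, hj⟩ := (QuotientGroup.eq_one_iff _).mp hk'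
    refine ⟨k + j, Subtype.ext ?_⟩
    rw [SubmonoidClass.coe_pow, pow_add, pow_mul, hj, OneMemClass.coe_one]

/-- The number of involutions is a power of `p`. -/
theorem card_eq_pow {G : Type u} [Group G] [Finite G] {p : ℕ} [hp : Fact p.Prime] (hodd : Odd p)
    {I : Set G} (hinv : ∀ a ∈ I, a * a = 1) (hpow : ∀ a ∈ I, ∀ b ∈ I, (a * b) ^ p = 1)
    (hconj : ∀ a ∈ I, ∀ b ∈ I, b * a * b ∈ I) (hsol : Group.IsSolvable (closure I))
    {y : G} (hy : y ∈ I) : ∃ k : ℕ, Nat.card I = p ^ k := by
  set X := closure I with hX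
  have hconjX : ∀ g ∈ X, ∀ a ∈ I, g * a * g⁻¹ ∈ I := by
    intro g hg
    refine closure_induction (p := fun g _ => ∀ a ∈ I, g * a * g⁻¹ ∈ I) ?_ ?_ ?_ ?_ hg
    · intro b hb a ha
      rw [inv_self (hinv b hb)]; exact hconj a ha b hb
    · simp
    · intro g₁ g₂ _ _ h₁ h₂ a ha
      simpa [mul_assoc] using h₁ _ (h₂ a ha)
    · intro g _ h a ha
      have hn : ∀ n : ℕ, ∀ a ∈ I, g ^ n * a * (g ^ n)⁻¹ ∈ I := by
        intro n
        induction n with
        | zero => simp
        | succ n ih =>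
          intro a ha
          rw [pow_succ']
          simpa [mul_assoc] using h _ (ih a ha)
      have h1 : g ^ (orderOf g - 1) = g⁻¹ := by
        rw [eq_inv_iff_mul_eq_one, ← pow_succ, Nat.sub_add_cancel (orderOf_pos g), pow_orderOf_eq_one]
      rw [← h1]; exact hn _ a ha
  set J : Set X := Subtype.val ⁻¹' I with hJ
  have hP := isPGroup_prods hodd (Nat.card X) X rfl hsol J
    (fun a ha => Subtype.ext (hinv _ ha)) (fun a ha b hb => Subtype.ext (by simpa using hpow _ ha _ hb))
    (fun a ha g => hconjX g g.2 _ ha) (closure_closure_coe_preimage)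
  set yX : X := ⟨y, subset_closure hy⟩ with hyX
  letI : MulAction (prods J) X :=
    MulAction.compHom X ((MulAut.conj : X →* MulAut X).comp (prods J).subtype)
  obtain ⟨k, hk⟩ := hP.card_orbit yX
  refine ⟨k, ?_⟩
  rw [← hk]
  refine Nat.card_congr ?_
  refine Equiv.ofBijective (fun a => ⟨⟨a.1, subset_closure a.2⟩, ?_⟩) ⟨?_, ?_⟩
  · have hk' : ((yX * ⟨a.1, subset_closure a.2⟩) ^ ((p + 1) / 2))⁻¹ ∈ prods J :=
      inv_mem (pow_mem (subset_closure (show _ ∈ {g : X | ∃ c ∈ J, ∃ b ∈ J, g = c * b} from ⟨yX, hy, ⟨a.1, subset_closure a.2⟩, a.2, rfl⟩)) _)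
    refine ⟨⟨_, hk'⟩, ?_⟩
    show ((yX * ⟨a.1, subset_closure a.2⟩) ^ ((p + 1) / 2))⁻¹ * yX *
      (((yX * ⟨a.1, subset_closure a.2⟩) ^ ((p + 1) / 2))⁻¹)⁻¹ = _
    rw [inv_inv]
    exact (conj_of_pow hodd (Subtype.ext (hinv _ hy)) (Subtype.ext (hinv _ a.2))
      (Subtype.ext (by simpa using hpow _ hy _ a.2))).symm
  · intro a b hab
    exact Subtype.ext (congrArg (fun w => (w.1 : X).1) hab)
  · rintro ⟨w, g, rfl⟩
    refine ⟨⟨_, hconjX (g : X).1 (g : X).2 y hy⟩, ?_⟩
    exact Subtype.ext (Subtype.ext rfl)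

end Cfsg.Agent.H91.OddProd
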