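import Cfsg.Agent.H91.OddProd.Kernel
import Cfsg.Agent.H91.OddProd.PClass
import Cfsg.Agent.H91.OddProd.Arith

/-!
The counting argument that finishes off a minimal counterexample: the classes of commuting members
are the points of a permutation action in which every member fixes exactly one point.
-/

set_option autoImplicit false

namespace Cfsg.Agent.H91.OddProd

open Subgroup MulAction

universe u v

/-- The block action. -/
structure Blocks {G : Type u} [Group G] (D : Set G) (Ω : Type v) [MulAction G Ω] (pt : G → Ω) :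
    Prop where
  fix : ∀ d ∈ D, ∀ ω : Ω, d • ω = ω ↔ pt d = ω
  equiv : ∀ g : G, ∀ d ∈ D, pt (g * d * g⁻¹) = g • pt d
  comm : ∀ a ∈ D, ∀ b ∈ D, Commute a b ↔ pt a = pt b
  surj : ∀ ω : Ω, ∃ d ∈ D, pt d = ω

/-- Conjugation by an element of order `p` without fixed points on a set of `p` elements is
transitive. -/
theorem exists_conj_pow {G : Type u} [Group G] [Finite G] {p : ℕ} (hp : p.Prime) {g : G}
    (hg : g ^ p = 1) {S : Set G} (hS : Nat.card S = p) (hst : ∀ d ∈ S, g * d * g⁻¹ ∈ S)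
    (hfree : ∀ d ∈ S, ¬ Commute d g) {d z : G} (hd : d ∈ S) (hz : z ∈ S) :
    ∃ i : ℕ, g ^ i * d * (g ^ i)⁻¹ = z := by
  have hmem : ∀ i : ℕ, g ^ i * d * (g ^ i)⁻¹ ∈ S := by
    intro i
    induction i with
    | zero => simpa using hd
    | succ i ih => rw [pow_succ']; simpa [mul_assoc] using hst _ ih
  have hord : orderOf g = p := by
    rcases hp.eq_one_or_self_of_dvd _ (orderOf_dvd_of_pow_eq_one hg) with h1 | h1
    · rw [orderOf_eq_one_iff] at h1
      exact absurd (by rw [h1]; exact Commute.one_right d) (hfree d hd)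
    · exact h1
  let f : Fin p → S := fun i => ⟨g ^ (i : ℕ) * d * (g ^ (i : ℕ))⁻¹, hmem i⟩
  have hinj : Function.Injective f := by
    suffices key : ∀ i j : Fin p, (i : ℕ) ≤ j → f i = f j → i = j by
      intro i j hij
      rcases le_total (i : ℕ) j with hle | hle
      · exact key i j hle hij
      · exact (key j i hle hij.symm).symm
    intro i j hle hij
    by_contra hne
    have hv := congrArg Subtype.val hij
    simp only [f] at hv
    have hc : Commute d (g ^ ((j : ℕ) - i)) := by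
      rw [show (g ^ (j : ℕ)) = g ^ (i : ℕ) * g ^ ((j : ℕ) - i) by
        rw [← pow_add, Nat.add_sub_cancel' hle]] at hv
      have h1 : g ^ ((j : ℕ) - i) * d * (g ^ ((j : ℕ) - i))⁻¹ = d := by
        have h2 := mul_left_cancel (a := g ^ (i : ℕ))
          (b := g ^ ((j : ℕ) - i) * d * (g ^ ((j : ℕ) - i))⁻¹) (c := d)
        apply h2
        apply mul_right_cancel (b := (g ^ (i : ℕ))⁻¹)
        rw [hv, mul_inv_rev]; simp [mul_assoc]
      exact (mul_inv_eq_iff_eq_mul.mp h1).symm
    have hcop : ((j : ℕ) - i).Coprime (orderOf g) := by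
      rw [hord]
      refine ((Nat.Prime.coprime_iff_not_dvd hp).mpr ?_).symm
      intro hdvd
      have := Nat.eq_zero_of_dvd_of_lt hdvd (lt_of_le_of_lt (Nat.sub_le _ _) j.2)
      exact hne (Fin.ext (by omega))
    obtain ⟨m, hm⟩ := exists_pow_eq_self_of_coprime hcop
    exact hfree d hd (hm ▸ hc.pow_right m)
  obtain ⟨i, hi⟩ := ((Nat.bijective_iff_injective_and_card f).mpr
    ⟨hinj, by rw [hS, Nat.card_fin]⟩).2 ⟨z, hz⟩
  exact ⟨i, congrArg Subtype.val hi⟩

namespace MinCex

variable {G : Type u} [Group G] [Finite G] {p : ℕ} {D : Set G} (h : MinCex p D)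
  {Ω : Type v} [Finite Ω] [MulAction G Ω] {pt : G → Ω} (hB : Blocks D Ω pt)
include h

theorem pow_ne {g : G} (hg : g ^ p = 1) (hne : g ≠ 1) : g * g ≠ 1 :=
  fun hh => hne (eq_one_of_pow_of_sq h.odd hh hg)

include hB

theorem pt_comm {a b : G} (ha : a ∈ D) (hb : b ∈ D) : Commute a b ↔ pt a = pt b := hB.comm a ha b hb

theorem pt_mul {a b : G} (ha : a ∈ D) (hb : b ∈ D) (hab : Commute a b) (hne : a ≠ b) :
    pt (a * b) = pt a :=
  (h.pt_comm hB (h.triangle ha hb hab hne) ha).mp ((Commute.refl a).mul_left hab.symm)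

/-- `C1`: no member commutes with the product of two non-commuting members. -/
theorem not_commute_prod {y y' w : G} (hy : y ∈ D) (hy' : y' ∈ D) (hn : ¬ Commute y y')
    (hw : w ∈ D) : ¬ Commute w (y * y') := by
  intro hc
  have hyi := h.inv y hy
  by_cases hwy : Commute w y
  · have h1 : Commute w y' := by
      have := hwy.mul_right hc
      rwa [← mul_assoc, hyi, one_mul] at this
    exact hn (h.trans hw hy hy' hwy.symm h1)
  set g := y * y' with hg
  have hwg : w * g * w = g := by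
    rw [hc.eq, mul_assoc, h.inv w hw, mul_one]
  have hyg : y * g * y = g⁻¹ := by
    rw [hg, mul_inv_flip hyi (h.inv y' hy')]; simp [← mul_assoc, hyi]
  have hwi := h.inv w hw
  have hconj : (w * y) * g * (w * y)⁻¹ = g⁻¹ := by
    rw [mul_inv_flip hwi hyi]
    calc w * y * g * (y * w) = w * (y * g * y) * w := by simp [mul_assoc]
      _ = (w * g * w)⁻¹ := by
        rw [hyg, mul_inv_rev (w * g) w, mul_inv_rev w g, inv_self hwi, ← mul_assoc]
      _ = g⁻¹ := by rw [hwg]
  have hconj2 : ∀ n : ℕ, (w * y) ^ (2 * n + 1) * g * ((w * y) ^ (2 * n + 1))⁻¹ = g⁻¹ := by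
    intro n
    induction n with
    | zero => simpa using hconj
    | succ n ih =>
      have hinv' : (w * y) * g⁻¹ * (w * y)⁻¹ = g := by
        rw [← inv_inj]; simpa [mul_assoc] using hconj
      rw [show 2 * (n + 1) + 1 = 2 + (2 * n + 1) by ring, pow_add, sq, mul_inv_rev]
      calc w * y * (w * y) * (w * y) ^ (2 * n + 1) * g *
            (((w * y) ^ (2 * n + 1))⁻¹ * (w * y * (w * y))⁻¹)
          = w * y * ((w * y) * ((w * y) ^ (2 * n + 1) * g * ((w * y) ^ (2 * n + 1))⁻¹) *
              (w * y)⁻¹) * (w * y)⁻¹ := by simp only [mul_inv_rev, mul_assoc]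
        _ = g⁻¹ := by rw [ih, hinv', hconj]
  obtain ⟨n, hn'⟩ := h.odd
  have h1 := hconj2 n
  rw [← hn', h.pow_of_not hw hy hwy, one_mul, inv_one, mul_one] at h1
  have hgp := h.pow_of_not hy hy' hn
  have : g * g = 1 := by nth_rewrite 2 [h1]; rw [mul_inv_cancel]
  exact hn (commute_of_sq hyi (h.inv y' hy') this)

/-- An inverter of `g` moves every fixed point of `g`. -/
theorem inverter_moves {g d : G} (hd : d ∈ D) (hgp : g ^ p = 1) (hg1 : g ≠ 1)
    (hdg : d * g * d = g⁻¹) {X : Ω} (hgX : g • X = X) : d • X ≠ X := by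
  intro hdX
  have hdi := h.inv d hd
  have hptd : pt d = X := (hB.fix d hd X).mp hdX
  have hc : Commute d (g * d * g⁻¹) :=
    (h.pt_comm hB hd (h.conj d hd g)).mpr (by rw [hB.equiv g d hd, hptd, hgX])
  have h1 := sq_of_commute hdi (h.inv _ (h.conj d hd g)) hc
  have h2 : d * (g * d * g⁻¹) = (g * g)⁻¹ := by
    rw [← mul_assoc, ← mul_assoc, hdg, ← mul_inv_rev]
  rw [h2, ← mul_inv_rev, inv_eq_one] at h1
  exact h.pow_ne hgp hg1 (eq_one_of_pow_of_sq h.odd h1 (by
    rw [← sq, ← pow_mul, mul_comm, pow_mul, hgp, one_pow]))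

theorem swap {y : G} (hy : y ∈ D) {A B : Ω} (hyA : y • A = B) : y • B = A := by
  rw [← hyA, ← mul_smul, h.inv y hy, one_smul]

theorem not_commute_swap {y y' : G} (hy : y ∈ D) (hy' : y' ∈ D) {A B : Ω} (hAB : A ≠ B)
    (hyA : y • A = B) (hy'A : y' • A = B) (hne : y ≠ y') : ¬ Commute y y' := by
  intro hc
  have hu := h.triangle hy hy' hc hne
  have h1 : pt (y * y') = A := (hB.fix _ hu A).mp (by rw [mul_smul, hy'A, h.swap hB hy hyA])
  rw [h.pt_mul hB hy hy' hc hne] at h1
  exact hAB ((hB.fix y hy A).mpr h1 ▸ hyA)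

theorem no_triangle_centralized {r a0 a1 c : G} (ha0 : a0 ∈ D) (ha1 : a1 ∈ D) (hc : c ∈ D)
    (hne : a0 ≠ a1) (h01 : pt a1 = pt a0) (hpc : pt c ≠ pt a0) (r0 : Commute r a0)
    (r1 : Commute r a1) (rc : Commute r c) : r = 1 := by
  by_contra hr
  have hcomm : Commute a0 a1 := (h.pt_comm hB ha0 ha1).mpr h01.symm
  have hu := h.triangle ha0 ha1 hcomm hne
  have hpu := h.pt_mul hB ha0 ha1 hcomm hne
  refine h.false_quad ha0 ha1 hu hc hcomm ((Commute.refl a0).mul_right hcomm)
    (fun hh => hpc ((h.pt_comm hB ha0 hc).mp hh).symm)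
    (fun hh => hpc (((h.pt_comm hB ha1 hc).mp hh).symm.trans h01))
    (fun hh => hpc (((h.pt_comm hB hu hc).mp hh).symm.trans hpu))
    (by rw [sq_of_commute (h.inv _ ha0) (h.inv _ ha1) hcomm]; exact Commute.one_left c)
    (h.proper_of_commute hr ?_)
  rintro z (rfl | rfl | rfl | rfl)
  exacts [r0, r1, r0.mul_right r1, rc]

theorem false_of_blocks (hpair : ∃ x ∈ D, ∃ a ∈ D, x ≠ a ∧ Commute x a) : False := by
  classical
  haveI := Fintype.ofFinite G
  haveI := Fintype.ofFinite Ω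
  haveI : Fact p.Prime := ⟨h.prime⟩
  have hp5 := h.five
  obtain ⟨x₀, hx₀, a₀, ha₀, hxa_ne, hxa⟩ := hpair
  let Bl : Ω → Finset G := fun ω => Finset.univ.filter fun d => d ∈ D ∧ pt d = ω
  have memBl : ∀ {ω d}, d ∈ Bl ω ↔ d ∈ D ∧ pt d = ω := fun {ω d} => by simp [Bl]
  let I : Ω → Ω → Finset G := fun A B => Finset.univ.filter fun d => d ∈ D ∧ d • A = B
  have memI : ∀ {A B d}, d ∈ I A B ↔ d ∈ D ∧ d • A = B := fun {A B d} => by simp [I]
  set m := (Bl (pt x₀)).card with hm
  have hBl : ∀ ω, (Bl ω).card = m := by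
    intro ω
    obtain ⟨d, hd, rfl⟩ := hB.surj ω
    obtain ⟨g, hg⟩ := isConj_iff.mp (h.cls x₀ hx₀ d hd)
    rw [hm]
    refine (Finset.card_bij (fun z _ => g * z * g⁻¹) ?_ (fun a _ b _ hab => by simpa using hab) ?_).symm
    · intro z hz
      rw [memBl] at hz ⊢
      exact ⟨h.conj z hz.1 g, by rw [hB.equiv g z hz.1, hz.2, ← hB.equiv g x₀ hx₀, hg]⟩
    · intro z hz
      rw [memBl] at hz
      refine ⟨g⁻¹ * z * g, ?_, by group⟩
      rw [memBl]
      have hz' := h.conj z hz.1 g⁻¹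
      rw [inv_inv] at hz'
      refine ⟨hz', ?_⟩
      have := hB.equiv g⁻¹ z hz.1
      rw [inv_inv] at this
      rw [this, hz.2, ← hg, hB.equiv g x₀ hx₀, inv_smul_smul]
  have hexB : ∀ ω, ∃ b0 ∈ Bl ω, ∃ b1 ∈ Bl ω, b0 ≠ b1 := by
    intro ω
    refine Finset.one_lt_card.mp ?_ |> fun ⟨b0, h0, b1, h1, hne⟩ => ⟨b0, h0, b1, h1, hne⟩
    rw [hBl, hm]
    exact Finset.one_lt_card.mpr ⟨x₀, memBl.mpr ⟨hx₀, rfl⟩, a₀,
      memBl.mpr ⟨ha₀, ((h.pt_comm hB hx₀ ha₀).mp hxa).symm⟩, hxa_ne⟩
  have hm3 : 3 ≤ m := by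
    rw [hm]
    have hu := h.triangle hx₀ ha₀ hxa hxa_ne
    have hsub : ({x₀, a₀, x₀ * a₀} : Finset G) ⊆ Bl (pt x₀) := by
      intro z hz
      simp only [Finset.mem_insert, Finset.mem_singleton] at hz
      rw [memBl]
      rcases hz with rfl | rfl | rfl
      · exact ⟨hx₀, rfl⟩
      · exact ⟨ha₀, ((h.pt_comm hB hx₀ ha₀).mp hxa).symm⟩
      · exact ⟨hu, h.pt_mul hB hx₀ ha₀ hxa hxa_ne⟩
    refine le_trans (le_of_eq ?_) (Finset.card_le_card hsub)
    rw [Finset.card_insert_of_notMem, Finset.card_pair]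
    · intro hh; exact h.ne_one x₀ hx₀ (by simpa using hh.symm)
    · simp only [Finset.mem_insert, Finset.mem_singleton, not_or]
      exact ⟨hxa_ne, fun hh => h.ne_one a₀ ha₀ (by simpa using hh.symm)⟩
  -- the map `y ↦ y a y`
  have hI_le : ∀ A B, A ≠ B → (I A B).card ≤ m := by
    intro A B hAB
    obtain ⟨a, ha, hpa⟩ := hB.surj A
    rw [← hBl B]
    refine Finset.card_le_card_of_injOn (fun y => y * a * y) ?_ ?_
    · intro y hy
      rw [Finset.mem_coe, memI] at hy
      rw [Finset.mem_coe, memBl]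
      refine ⟨h.conj_self ha hy.1, ?_⟩
      have := hB.equiv y a ha
      rw [inv_self (h.inv y hy.1)] at this
      rw [this, hpa, hy.2]
    · intro y hy y' hy' heq
      rw [Finset.mem_coe, memI] at hy hy'
      by_contra hne
      have hn := h.not_commute_swap hB hy'.1 hy.1 hAB hy'.2 hy.2 (Ne.symm hne)
      refine h.not_commute_prod hB hy'.1 hy.1 hn ha ?_
      have h1 : y' * y * a = a * (y' * y) := by
        have e1 : y' * (y * a * y) = a * y' := by
          simp only at heq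
          rw [heq]; simp [mul_assoc, mul_cancel (h.inv y' hy'.1)]
        calc y' * y * a = y' * (y * a * y) * y := by
              simp [mul_assoc, h.inv y hy.1]
          _ = a * (y' * y) := by rw [e1, mul_assoc]
      exact h1.symm
  -- two points at least, indeed three
  have hI : ∀ A B, A ≠ B → (I A B).card = m := by
    intro A
    let s : Finset G := Finset.univ.filter fun y => y ∈ D ∧ pt y ≠ A
    let T : Finset Ω := Finset.univ.filter fun B => B ≠ A
    have e1 : s.card = ∑ B ∈ T, (Bl B).card := by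
      rw [Finset.card_eq_sum_card_fiberwise (f := pt) (s := s) (t := T) (fun y hy => by
        simp [s, T] at hy ⊢; exact hy.2)]
      refine Finset.sum_congr rfl fun B hBT => ?_
      congr 1
      ext y
      simp only [s, T, Finset.mem_filter, Finset.mem_univ, true_and] at hBT ⊢
      rw [memBl]
      exact ⟨fun hh => ⟨hh.1.1, hh.2⟩, fun hh => ⟨⟨hh.1, by rw [hh.2]; exact hBT⟩, hh.2⟩⟩
    have e2 : s.card = ∑ B ∈ T, (I A B).card := by
      rw [Finset.card_eq_sum_card_fiberwise (f := fun y => y • A) (s := s) (t := T) (fun y hy => by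
        simp [s, T] at hy ⊢
        exact fun hh => hy.2 ((hB.fix y hy.1 A).mp hh))]
      refine Finset.sum_congr rfl fun B hBT => ?_
      congr 1
      ext y
      simp only [s, T, Finset.mem_filter, Finset.mem_univ, true_and] at hBT ⊢
      rw [memI]
      refine ⟨fun hh => ⟨hh.1.1, hh.2⟩, fun hh => ⟨⟨hh.1, fun hpy => hBT ?_⟩, hh.2⟩⟩
      rw [← hh.2, (hB.fix y hh.1 A).mpr hpy]
    intro B hAB
    have hle : ∀ B ∈ T, (I A B).card ≤ m := fun B hBT => hI_le A B (Ne.symm (by simpa [T] using hBT))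
    refine (Finset.sum_eq_sum_iff_of_le hle).mp ?_ B (by simpa [T] using Ne.symm hAB)
    rw [← e2, e1]
    exact Finset.sum_congr rfl fun B _ => hBl B
  obtain ⟨a₁, ha₁, b₁, hb₁, hn₁⟩ := h.nonab
  have hthree : ∀ A B : Ω, ∃ C, C ≠ A ∧ C ≠ B := by
    intro A B
    have hAB₁ : pt a₁ ≠ pt b₁ := fun hh => hn₁ ((h.pt_comm hB ha₁ hb₁).mpr hh)
    have hC : a₁ • pt b₁ ≠ pt a₁ ∧ a₁ • pt b₁ ≠ pt b₁ := by
      refine ⟨fun hh => hAB₁ ?_, fun hh => hAB₁ ((hB.fix a₁ ha₁ _).mp hh)⟩
      have h1 := h.swap hB ha₁ hh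
      rw [(hB.fix a₁ ha₁ _).mpr rfl] at h1
      exact h1
    by_contra hcon
    push Not at hcon
    rcases eq_or_ne (pt a₁) A with e1 | e1 <;> rcases eq_or_ne (pt b₁) A with e2 | e2
    · exact hAB₁ (e1.trans e2.symm)
    · exact hC.2 ((hcon _ (by rw [← e1]; exact hC.1)).trans (hcon _ e2).symm)
    · exact hC.1 ((hcon _ (by rw [← e2]; exact hC.2)).trans (hcon _ e1).symm)
    · exact hAB₁ ((hcon _ e1).trans (hcon _ e2).symm)
  -- `m` is a power of `p`, so it is `p`
  have hmp : m = p := by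
    obtain ⟨A, B, hAB⟩ : ∃ A B : Ω, A ≠ B :=
      ⟨pt a₁, pt b₁, fun hh => hn₁ ((h.pt_comm hB ha₁ hb₁).mpr hh)⟩
    set J : Set G := {y | y ∈ D ∧ y • A = B} with hJ
    have hne : closure J ≠ ⊤ := by
      intro htop
      obtain ⟨C, hCA, hCB⟩ := hthree A B
      obtain ⟨c, hc, hpc⟩ := hB.surj C
      obtain ⟨a, ha, hpa⟩ := hB.surj A
      obtain ⟨g, hg⟩ := isConj_iff.mp (h.cls a ha c hc)
      have hinv : ∀ k ∈ closure J, ({k • A, k • B} : Set Ω) ⊆ {A, B} := by
        intro k hk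
        refine closure_induction (p := fun k _ => ({k • A, k • B} : Set Ω) ⊆ {A, B}) ?_ ?_ ?_ ?_ hk
        · rintro y ⟨hy, hyA⟩
          rw [hyA, h.swap hB hy hyA]
          intro z hz; simp at hz ⊢; tauto
        · simp
        · intro k l _ _ hk hl
          have h2 : ∀ z ∈ ({A, B} : Set Ω), k • z ∈ ({A, B} : Set Ω) := by
            rintro z (rfl | rfl)
            exacts [hk (by simp), hk (by simp)]
          rw [mul_smul, mul_smul]
          rintro z (rfl | rfl)
          exacts [h2 _ (hl (by simp)), h2 _ (hl (by simp))]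
        · intro k _ hk
          have hA := hk (show k • A ∈ ({k • A, k • B} : Set Ω) by simp)
          have hB' := hk (show k • B ∈ ({k • A, k • B} : Set Ω) by simp)
          simp only [Set.mem_insert_iff, Set.mem_singleton_iff] at hA hB'
          have hne' : k • A ≠ k • B := fun hh => hAB (by simpa using hh)
          rcases hA with hA | hA <;> rcases hB' with hB' | hB'
          · exact absurd (hA.trans hB'.symm) hne'
          · have hA' : k⁻¹ • A = A := inv_smul_eq_iff.mpr hA.symm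
            have hB'' : k⁻¹ • B = B := inv_smul_eq_iff.mpr hB'.symm
            rw [hA', hB'']
          · have hA' : k⁻¹ • B = A := inv_smul_eq_iff.mpr hA.symm
            have hB'' : k⁻¹ • A = B := inv_smul_eq_iff.mpr hB'.symm
            rw [hA', hB'']
            intro z hz; simp at hz ⊢; tauto
          · exact absurd (hA.trans hB'.symm) hne'
      have h1 := hinv g (htop ▸ mem_top g) (show g • A ∈ ({g • A, g • B} : Set Ω) by simp)
      rw [← hpa, ← hB.equiv g a ha, hg, hpc, hpa] at h1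
      simp at h1
      tauto
    obtain ⟨k, hk⟩ := card_eq_pow (p := p) h.odd (I := J) (fun a ha => h.inv a ha.1)
      (fun a ha b hb => by
        by_cases hab : a = b
        · rw [hab, h.inv b hb.1, one_pow]
        · exact h.pow_of_not ha.1 hb.1 (h.not_commute_swap hB ha.1 hb.1 hAB ha.2 hb.2 hab))
      (fun a ha b hb => ⟨h.conj_self ha.1 hb.1, by
        rw [mul_smul, mul_smul, hb.2, h.swap hB ha.1 ha.2, hb.2]⟩)
      (h.sub J (fun y hy => hy.1) hne)
      (Finset.card_pos.mp (by rw [hI A B hAB]; omega) |>.choose_spec |> fun hh => memI.mp hh)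
    have hmk : m = p ^ k := by
      rw [← hk, ← hI A B hAB, Nat.card_eq_fintype_card]
      rw [Fintype.card_subtype]
      congr 1
    -- `m + 1` is a power of two
    set ω := pt x₀
    let E : Subgroup G :=
      { carrier := {z | z = 1 ∨ (z ∈ D ∧ pt z = ω)}
        one_mem' := Or.inl rfl
        mul_mem' := by
          rintro a b (rfl | ⟨ha, hpa⟩) (rfl | ⟨hb, hpb⟩)
          · simp
          · exact Or.inr (by simpa using ⟨hb, hpb⟩)
          · exact Or.inr (by simpa using ⟨ha, hpa⟩)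
          · by_cases hab : a = b
            · exact Or.inl (by rw [hab, h.inv b hb])
            · have hc := (h.pt_comm hB ha hb).mpr (hpa.trans hpb.symm)
              exact Or.inr ⟨h.triangle ha hb hc hab, (h.pt_mul hB ha hb hc hab).trans hpa⟩
        inv_mem' := by
          rintro a (rfl | ⟨ha, hpa⟩)
          · simp
          · exact Or.inr (by rw [inv_self (h.inv a ha)]; exact ⟨ha, hpa⟩) }
    have hE2 : IsPGroup 2 E := by
      rintro ⟨z, rfl | ⟨hz, -⟩⟩
      · exact ⟨0, Subtype.ext (by simp)⟩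
      · exact ⟨1, Subtype.ext (by simpa [sq] using h.inv z hz)⟩
    haveI : Fact (Nat.Prime 2) := ⟨Nat.prime_two⟩
    obtain ⟨r, hr⟩ := IsPGroup.iff_card.mp hE2
    have hcardE : Nat.card E = m + 1 := by
      rw [hm, ← Finset.card_insert_of_notMem (s := Bl ω) (a := 1)
        (fun h1 => h.ne_one 1 (memBl.mp h1).1 rfl), ← Nat.card_eq_finsetCard]
      refine Nat.card_congr (Equiv.subtypeEquivRight fun z => ?_)
      rw [Finset.mem_insert, memBl]
      exact Iff.rfl
    have hk1 : k = 1 := by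
      refine eq_one_of_pow_succ_two_pow h.odd (by omega) ?_ (r := r) (by rw [← hmk, ← hcardE, hr])
      rintro rfl
      rw [pow_zero] at hmk; omega
    rw [hmk, hk1, pow_one]
  have hBlp : ∀ ω, Nat.card {d : G | d ∈ D ∧ pt d = ω} = p := fun ω => by
    rw [← hmp, ← hBl ω, Nat.card_eq_fintype_card]
    exact Fintype.card_subtype _
  have hfixmod : ∀ (R : Subgroup G), IsPGroup p R →
      Nat.card Ω ≡ Nat.card (fixedPoints R Ω) [MOD p] := fun R hR => hR.card_modEq_card_fixedPoints Ω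
  -- an element without fixed points
  have hpn : p ∣ Nat.card Ω := by
    let y := x₀
    let T : Finset Ω := Finset.univ.filter fun B => B ≠ pt y
    let s : Finset G := Finset.univ.filter fun z => z ∈ D ∧ pt z ≠ pt y
    have hs : s.card = T.card * m := by
      rw [Finset.card_eq_sum_card_fiberwise (f := pt) (s := s) (t := T) (fun z hz => by
        simp [s, T] at hz ⊢; exact hz.2)]
      rw [Finset.sum_congr rfl (fun B hBT => (?_ : _ = m)), Finset.sum_const, smul_eq_mul]
      rw [← hBl B]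
      congr 1
      ext z
      simp only [s, T, Finset.mem_filter, Finset.mem_univ, true_and] at hBT ⊢
      rw [memBl]
      exact ⟨fun hh => ⟨hh.1.1, hh.2⟩, fun hh => ⟨⟨hh.1, by rw [hh.2]; exact hBT⟩, hh.2⟩⟩
    let bad : Finset G := T.biUnion fun C => (I C (y • C)).erase y
    have hTpos : 0 < T.card := by
      obtain ⟨C, hC, -⟩ := hthree (pt y) (pt y)
      exact Finset.card_pos.mpr ⟨C, by simpa [T] using hC⟩
    have hbad : bad.card < s.card := by
      calc bad.card ≤ ∑ C ∈ T, ((I C (y • C)).erase y).card := Finset.card_biUnion_le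
        _ = ∑ C ∈ T, (m - 1) := by
          refine Finset.sum_congr rfl fun C hC => ?_
          have hC' : C ≠ pt y := by simpa [T] using hC
          rw [Finset.card_erase_of_mem (memI.mpr ⟨hx₀, rfl⟩), hI]
          exact fun hh => hC' ((hB.fix y hx₀ C).mp hh.symm).symm
        _ = T.card * (m - 1) := by rw [Finset.sum_const, smul_eq_mul]
        _ < s.card := by rw [hs]; exact Nat.mul_lt_mul_of_pos_left (by omega) hTpos
    obtain ⟨y', hy's, hy'bad⟩ := Finset.exists_mem_notMem_of_card_lt_card hbad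
    simp only [s, Finset.mem_filter, Finset.mem_univ, true_and] at hy's
    have hn : ¬ Commute y y' := fun hh => hy's.2 ((h.pt_comm hB hx₀ hy's.1).mp hh).symm
    have hnofix : ∀ C : Ω, (y * y') • C ≠ C := by
      intro C hC
      have h1 : y' • C = y • C := by
        rw [mul_smul] at hC
        exact (h.swap hB hx₀ hC).symm
      have hCy : C ≠ pt y := by
        rintro rfl
        rw [(hB.fix y hx₀ _).mpr rfl] at h1
        exact hy's.2 ((hB.fix y' hy's.1 _).mp h1)
      refine hy'bad (Finset.mem_biUnion.mpr ⟨C, by simpa [T] using hCy, ?_⟩)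
      rw [Finset.mem_erase, memI]
      exact ⟨fun hh => hn (hh ▸ Commute.refl y), hy's.1, h1⟩
    have hR : IsPGroup p (zpowers (y * y')) := by
      refine IsPGroup.of_card_dvd_pow (n := 1) ?_
      rw [Nat.card_zpowers, pow_one]
      exact orderOf_dvd_of_pow_eq_one (h.pow_of_not hx₀ hy's.1 hn)
    have h0 : Nat.card (fixedPoints (zpowers (y * y')) Ω) = 0 := by
      rw [Nat.card_eq_zero]; left
      exact ⟨fun C => hnofix C.1 (C.2 ⟨_, mem_zpowers _⟩)⟩
    have := hfixmod _ hR
    rw [h0] at this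
    exact Nat.modEq_zero_iff_dvd.mp this
  -- an element with fixed points
  obtain ⟨A₀, B₀, hAB₀⟩ : ∃ A B : Ω, A ≠ B :=
    ⟨pt a₁, pt b₁, fun hh => hn₁ ((h.pt_comm hB ha₁ hb₁).mpr hh)⟩
  obtain ⟨y₁, hy₁, y₂, hy₂, hy12⟩ := Finset.one_lt_card.mp (show 1 < (I A₀ B₀).card by
    rw [hI _ _ hAB₀]; omega)
  rw [memI] at hy₁ hy₂
  set g := y₁ * y₂ with hgdef
  have hgn : ¬ Commute y₁ y₂ := h.not_commute_swap hB hy₁.1 hy₂.1 hAB₀ hy₁.2 hy₂.2 hy12
  have hgp : g ^ p = 1 := h.pow_of_not hy₁.1 hy₂.1 hgn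
  have hg1 : g ≠ 1 := fun hh => hgn (by
    rw [hgdef, mul_eq_one_iff_eq_inv, inv_self (h.inv _ hy₂.1)] at hh
    rw [hh])
  have hgfree : ∀ d ∈ D, ¬ Commute d g := fun d hd => h.not_commute_prod hB hy₁.1 hy₂.1 hgn hd
  have hgord : orderOf g = p := orderOf_eq_prime hgp hg1
  have hgA : g • A₀ = A₀ := by rw [hgdef, mul_smul, hy₂.2, h.swap hB hy₁.1 hy₁.2]
  have hgB : g • B₀ = B₀ := by
    rw [hgdef, mul_smul, h.swap hB hy₂.1 hy₂.2, hy₁.2]
  set F : Finset Ω := Finset.univ.filter fun C => g • C = C with hF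
  have memF : ∀ {C}, C ∈ F ↔ g • C = C := fun {C} => by simp [F]
  have hFp : p ∣ F.card := by
    have hR : IsPGroup p (zpowers g) := by
      refine IsPGroup.of_card_dvd_pow (n := 1) ?_
      rw [Nat.card_zpowers, pow_one, hgord]
    have h1 := hfixmod _ hR
    have h2 : Nat.card (fixedPoints (zpowers g) Ω) = F.card := by
      rw [← Nat.card_eq_finsetCard]
      refine Nat.card_congr (Equiv.subtypeEquivRight fun C => ?_)
      rw [memF]
      refine ⟨fun hC => hC ⟨g, mem_zpowers g⟩, fun hC => ?_⟩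
      rintro ⟨k, hk⟩
      exact (show k ∈ stabilizer G C from (zpowers_le.mpr hC) hk)
    rw [h2] at h1
    exact Nat.modEq_zero_iff_dvd.mp (h1.symm.trans (Nat.modEq_zero_iff_dvd.mpr hpn))
  by_cases hcase : ∀ A ∈ F, ∀ C ∈ F, A ≠ C → ∀ d ∈ I A C, d * g * d = g⁻¹
  · -- every inverter lies above `g`
    set Jg : Set G := {d | d ∈ D ∧ d * g * d = g⁻¹} with hJg
    have hne : closure Jg ≠ ⊤ := by
      intro htop
      have hn : (zpowers g).Normal := by
        refine normalizer_eq_top_iff.mp (top_le_iff.mp ?_)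
        rw [← htop, closure_le]
        intro d hd
        rw [SetLike.mem_coe, mem_normalizer_iff]
        have hstab : ∀ w ∈ zpowers g, d * w * d⁻¹ ∈ zpowers g := by
          intro w hw
          obtain ⟨i, rfl⟩ := mem_zpowers_iff.mp hw
          rw [← conj_zpow, inv_self (h.inv d hd.1), hd.2]
          exact zpow_mem (inv_mem (mem_zpowers g)) i
        intro w
        refine ⟨hstab w, fun hw => ?_⟩
        have h1 := hstab _ hw
        rw [inv_self (h.inv d hd.1)] at h1
        simpa [mul_assoc, h.inv d hd.1, mul_cancel (h.inv d hd.1)] using h1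
      haveI : Group.IsSolvable (zpowers g) := Group.isSolvable_of_comm fun u v => by
        obtain ⟨i, hi⟩ := mem_zpowers_iff.mp u.2
        obtain ⟨j, hj⟩ := mem_zpowers_iff.mp v.2
        apply Subtype.ext
        simp only [Subgroup.coe_mul, ← hi, ← hj, ← zpow_add, add_comm]
      exact hg1 (zpowers_eq_bot.mp (h.rad _ hn ‹_›))
    have hy₁J : y₁ ∈ Jg := ⟨hy₁.1, by
      rw [hgdef, mul_inv_flip (h.inv _ hy₁.1) (h.inv _ hy₂.1)]
      simp [← mul_assoc, h.inv _ hy₁.1]⟩
    obtain ⟨k, hk⟩ := card_eq_pow (p := p) h.odd (I := Jg) (fun a ha => h.inv a ha.1)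
      (fun a ha b hb => by
        by_cases hab : a = b
        · rw [hab, h.inv b hb.1, one_pow]
        · refine h.pow_of_not ha.1 hb.1 fun hc => hgfree _ (h.triangle ha.1 hb.1 hc hab) ?_
          show a * b * g = g * (a * b)
          have e1 : ∀ {z : G}, z ∈ Jg → z * g = g⁻¹ * z := fun {z} hz => by
            rw [← hz.2, mul_assoc, h.inv z hz.1, mul_one]
          have e2 : ∀ {z : G}, z ∈ Jg → z * g⁻¹ = g * z := fun {z} hz => by
            rw [← hz.2, ← mul_assoc, ← mul_assoc, h.inv z hz.1, one_mul]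
          rw [mul_assoc, e1 hb, ← mul_assoc, e2 ha, mul_assoc])
      (fun a ha b hb => ⟨h.conj_self ha.1 hb.1, by
        calc b * a * b * g * (b * a * b) = b * (a * (b * g * b) * a) * b := by simp [mul_assoc]
          _ = b * (a * g * a)⁻¹ * b := by
            rw [hb.2, mul_inv_rev (a * g) a, mul_inv_rev a g, inv_self (h.inv a ha.1),
              mul_assoc a g⁻¹ a]
          _ = b * g * b := by rw [ha.2, inv_inv]
          _ = g⁻¹ := hb.2⟩)
      (h.sub Jg (fun y hy => hy.1) hne) hy₁J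
    -- count the inverters
    have hA₀F : A₀ ∈ F := memF.mpr hgA
    let Js : Finset G := Finset.univ.filter fun d => d ∈ Jg
    have hJs : Js.card = p ^ k := by
      rw [← hk, Nat.card_eq_fintype_card]
      exact (Fintype.card_subtype _).symm
    have hcount : Js.card = (F.erase A₀).card * p := by
      rw [Finset.card_eq_sum_card_fiberwise (f := fun d => d • A₀) (s := Js) (t := F.erase A₀)
        (fun d hd => by
          simp only [Js, Finset.coe_filter, Set.mem_setOf_eq, Finset.mem_univ, true_and] at hd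
          rw [Finset.mem_coe, Finset.mem_erase, memF]
          refine ⟨h.inverter_moves hB hd.1 hgp hg1 hd.2 hgA, ?_⟩
          rw [← mul_smul]
          have : g * d = d * g⁻¹ := by
            rw [← hd.2, ← mul_assoc, ← mul_assoc, h.inv d hd.1, one_mul]
          rw [this, mul_smul, inv_smul_eq_iff.mpr hgA.symm])]
      rw [Finset.sum_congr rfl (fun C hC => (?_ : _ = p)), Finset.sum_const, smul_eq_mul]
      rw [Finset.mem_erase] at hC
      rw [← hmp, ← hI A₀ C (Ne.symm hC.1)]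
      congr 1
      ext d
      simp only [Js, Finset.mem_filter, Finset.mem_univ, true_and]
      rw [memI]
      exact ⟨fun hh => ⟨hh.1.1, hh.2⟩, fun hh => ⟨⟨hh.1, hcase A₀ hA₀F C hC.2 (Ne.symm hC.1) d
        (memI.mpr hh)⟩, hh.2⟩⟩
    rw [hJs, Finset.card_erase_of_mem hA₀F] at hcount
    have hF2 : 2 ≤ F.card :=
      Finset.one_lt_card.mpr ⟨A₀, hA₀F, B₀, memF.mpr hgB, hAB₀⟩
    rcases k with - | k
    · rw [pow_zero] at hcount
      have : p ≤ (F.card - 1) * p := Nat.le_mul_of_pos_left p (by omega)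
      omega
    · rw [pow_succ] at hcount
      have h1 := Nat.eq_of_mul_eq_mul_right h.prime.pos hcount
      rcases k with - | k
      · rw [pow_zero] at h1
        have := Nat.le_of_dvd (by omega) hFp
        omega
      · have h2 : p ∣ F.card - 1 := h1 ▸ dvd_pow_self p (Nat.succ_ne_zero k)
        have h3 := Nat.dvd_sub hFp h2
        rw [show F.card - (F.card - 1) = 1 by omega] at h3
        exact h.prime.one_lt.ne' (Nat.dvd_one.mp h3)
  -- another line through two fixed points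
  push Not at hcase
  obtain ⟨A, hA, C, hC, hAC, d₁, hd₁, hd₁g⟩ := hcase
  rw [memF] at hA hC
  obtain ⟨d₂, hd₂, hd12⟩ := Finset.exists_mem_ne (show 1 < (I A C).card by
    rw [hI _ _ hAC]; omega) d₁
  have hd₁' := memI.mp hd₁
  have hd₂' := memI.mp hd₂
  set k := d₁ * d₂ with hkdef
  have hkn : ¬ Commute d₁ d₂ :=
    h.not_commute_swap hB hd₁'.1 hd₂'.1 hAC hd₁'.2 hd₂'.2 hd12.symm
  have hkp : k ^ p = 1 := h.pow_of_not hd₁'.1 hd₂'.1 hkn
  have hk1 : k ≠ 1 := fun hh => hkn (by
    rw [hkdef, mul_eq_one_iff_eq_inv, inv_self (h.inv _ hd₂'.1)] at hh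
    rw [hh])
  have hkfree : ∀ d ∈ D, ¬ Commute d k :=
    fun d hd => h.not_commute_prod hB hd₁'.1 hd₂'.1 hkn hd
  have hkord : orderOf k = p := orderOf_eq_prime hkp hk1
  have hkA : k • A = A := by rw [hkdef, mul_smul, hd₂'.2, h.swap hB hd₁'.1 hd₁'.2]
  have hkC : k • C = C := by rw [hkdef, mul_smul, h.swap hB hd₂'.1 hd₂'.2, hd₁'.2]
  have hd₁k : d₁ * k * d₁ = k⁻¹ := by
    rw [hkdef, mul_inv_flip (h.inv _ hd₁'.1) (h.inv _ hd₂'.1)]
    simp [← mul_assoc, h.inv _ hd₁'.1]
  have hgk_not : k ∉ zpowers g := by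
    intro hkg
    have hz : zpowers k = zpowers g := by
      refine eq_of_le_of_card_ge (zpowers_le.mpr hkg) ?_
      rw [Nat.card_zpowers, Nat.card_zpowers, hgord, hkord]
    obtain ⟨i, hi⟩ := mem_zpowers_iff.mp (hz ▸ mem_zpowers g : g ∈ zpowers k)
    refine hd₁g ?_
    rw [← hi]
    conv_lhs => rw [show d₁ * k ^ i * d₁ = d₁ * k ^ i * d₁⁻¹ by rw [inv_self (h.inv _ hd₁'.1)]]
    rw [← conj_zpow, inv_self (h.inv _ hd₁'.1), hd₁k, inv_zpow]
  -- `g` centralizes `k`
  have hline : ∀ z ∈ I A C, ∃ i : ℕ, z = k ^ i * d₁ * (k ^ i)⁻¹ := by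
    intro z hz
    obtain ⟨i, hi⟩ := exists_conj_pow h.prime hkp (S := {d | d ∈ D ∧ d • A = C})
      (by rw [← hmp, ← hI A C hAC, Nat.card_eq_fintype_card]; exact Fintype.card_subtype _)
      (fun d hd => ⟨h.conj d hd.1 k, by
        rw [mul_smul, mul_smul, inv_smul_eq_iff.mpr hkA.symm, hd.2, hkC]⟩)
      (fun d hd => hkfree d hd.1) hd₁' (memI.mp hz)
    exact ⟨i, hi.symm⟩
  have hgk : Commute g k := by
    have hconj : ∀ z ∈ I A C, g * z * g⁻¹ ∈ I A C := by
      intro z hz
      rw [memI] at hz ⊢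
      exact ⟨h.conj z hz.1 g, by
        rw [mul_smul, mul_smul, inv_smul_eq_iff.mpr hA.symm, hz.2, hC]⟩
    have hmem : g * k * g⁻¹ ∈ zpowers k := by
      have : g * k * g⁻¹ = (g * d₁ * g⁻¹) * (g * d₂ * g⁻¹) := by rw [hkdef]; group
      rw [this]
      have hcv : ∀ z ∈ I A C, z * d₁ ∈ zpowers k := by
        intro z hz
        obtain ⟨i, rfl⟩ := hline z hz
        have h1 : d₁ * (k ^ i)⁻¹ * d₁ = k ^ i := by
          rw [show d₁ * (k ^ i)⁻¹ * d₁ = (d₁ * k * d₁⁻¹)⁻¹ ^ i by
            rw [← inv_pow, ← inv_self (h.inv _ hd₁'.1)]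
            simp only [inv_self (h.inv _ hd₁'.1)]
            rw [show (d₁ * k * d₁)⁻¹ = d₁ * k⁻¹ * d₁⁻¹ by
              simp [mul_assoc, inv_self (h.inv _ hd₁'.1)], conj_pow, inv_self (h.inv _ hd₁'.1)]]
          rw [inv_self (h.inv _ hd₁'.1), hd₁k, inv_inv]
        rw [show k ^ i * d₁ * (k ^ i)⁻¹ * d₁ = k ^ i * (d₁ * (k ^ i)⁻¹ * d₁) by
          simp [mul_assoc], h1]
        exact mul_mem (pow_mem (mem_zpowers k) i) (pow_mem (mem_zpowers k) i)
      have := mul_mem (hcv _ (hconj _ hd₁)) (inv_mem (hcv _ (hconj _ hd₂)))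
      rwa [mul_inv_flip (h.inv _ (h.conj _ hd₂'.1 g)) (h.inv _ hd₁'.1), mul_assoc,
        mul_cancel (h.inv _ hd₁'.1)] at this
    obtain ⟨j, hj⟩ := (mem_powers_iff_mem_zpowers).mpr hmem
    simp only at hj
    have hiter : ∀ n : ℕ, g ^ n * k * (g ^ n)⁻¹ = k ^ (j ^ n) := by
      intro n
      induction n with
      | zero => simp
      | succ n ih =>
        rw [pow_succ', show g * g ^ n * k * (g * g ^ n)⁻¹ = g * (g ^ n * k * (g ^ n)⁻¹) * g⁻¹ by
          group, ih, ← conj_pow, ← hj, ← pow_mul, pow_succ']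
    have h1 := hiter p
    rw [hgp, one_mul, inv_one, mul_one] at h1
    have h2 : 1 ≡ j ^ p [MOD p] := by
      rw [← hkord]
      refine pow_eq_pow_iff_modEq.mp ?_
      rw [pow_one, hkord]; exact h1
    have h3 : j ≡ 1 [MOD p] := by
      refine (ZMod.natCast_eq_natCast_iff _ _ _).mp ?_
      have h4 := (ZMod.natCast_eq_natCast_iff _ _ _).mpr h2
      rw [Nat.cast_pow, ZMod.pow_card] at h4
      exact h4.symm
    have h5 : g * k * g⁻¹ = k := by
      rw [← hj]
      nth_rewrite 2 [← pow_one k]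
      exact pow_eq_pow_iff_modEq.mpr (by rwa [hkord])
    exact mul_inv_eq_iff_eq_mul.mp h5
  -- the centralizer of `k` fixing `A` and `C`
  let R : Subgroup G := stabilizer G A ⊓ stabilizer G C ⊓ centralizer ({k} : Set G)
  have memR : ∀ {r}, r ∈ R ↔ r • A = A ∧ r • C = C ∧ Commute r k := fun {r} => by
    simp only [R, mem_inf, mem_stabilizer_iff, mem_centralizer_singleton_iff, and_assoc]
    constructor
    · rintro ⟨h1, h2, h3⟩; exact ⟨h1, h2, h3⟩
    · rintro ⟨h1, h2, h3⟩; exact ⟨h1, h2, h3.eq⟩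
  have hgR : g ∈ R := memR.mpr ⟨hA, hC, hgk⟩
  have hkR : k ∈ R := memR.mpr ⟨hkA, hkC, Commute.refl k⟩
  obtain ⟨a, haA, a', ha'A, haa⟩ := hexB A
  rw [memBl] at haA ha'A
  obtain ⟨c, hc, hpc⟩ := hB.surj C
  have hfix : ∀ (r : G) (X : Ω) (x : G), x ∈ D → pt x = X → ∀ e : G, e • X = X →
      Commute r x → Commute r e → (∀ z ∈ D, ¬ Commute z e) → e ^ p = 1 →
      ∀ z ∈ D, pt z = X → Commute r z := by
    intro r X x hx hpx e heX hrx hre hefree hep z hz hpz
    obtain ⟨i, hi⟩ := exists_conj_pow h.prime hep (S := {d | d ∈ D ∧ pt d = X}) (hBlp X)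
      (fun d hd => ⟨h.conj d hd.1 e, by rw [hB.equiv e d hd.1, hd.2, heX]⟩)
      (fun d hd => hefree d hd.1) ⟨hx, hpx⟩ ⟨hz, hpz⟩
    rw [← hi]
    exact ((hre.pow_right i).mul_right hrx).mul_right (hre.pow_right i).inv_right
  have hRle : Nat.card R ≤ p ^ 2 := by
    have hinj : Function.Injective (fun r : R =>
        ((⟨(r : G) * a * (r : G)⁻¹, h.conj _ haA.1 _, by
          rw [hB.equiv _ _ haA.1, haA.2, (memR.mp r.2).1]⟩,
        ⟨(r : G) * c * (r : G)⁻¹, h.conj _ hc _, by
          rw [hB.equiv _ _ hc, hpc, (memR.mp r.2).2.1]⟩) :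
          {d : G | d ∈ D ∧ pt d = A} × {d : G | d ∈ D ∧ pt d = C})) := by
      intro r s hrs
      simp only [Prod.mk.injEq, Subtype.mk.injEq] at hrs
      have hq : ((s : G)⁻¹ * r) = 1 := by
        have hq1 : ∀ z : G, (r : G) * z * (r : G)⁻¹ = s * z * (s : G)⁻¹ →
            Commute ((s : G)⁻¹ * r) z := fun z hz => by
          show (s : G)⁻¹ * r * z = z * ((s : G)⁻¹ * r)
          calc (s : G)⁻¹ * r * z = (s : G)⁻¹ * (r * z * (r : G)⁻¹) * r := by group
            _ = z * ((s : G)⁻¹ * r) := by rw [hz]; group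
        have hqa := hq1 a hrs.1
        have hqc := hq1 c hrs.2
        have hqk : Commute ((s : G)⁻¹ * r) k :=
          ((memR.mp s.2).2.2.inv_left).mul_left (memR.mp r.2).2.2
        refine h.no_triangle_centralized hB haA.1 ha'A.1 hc haa (ha'A.2.trans haA.2.symm)
          (by rw [hpc, haA.2]; exact hAC.symm) hqa ?_ hqc
        exact hfix _ A a haA.1 haA.2 k hkA hqa hqk hkfree hkp a' ha'A.1 ha'A.2
      exact Subtype.ext (by rwa [inv_mul_eq_one, eq_comm] at hq)
    have h1 := Nat.card_le_card_of_injective _ hinj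
    rw [Nat.card_prod, hBlp, hBlp] at h1
    rw [sq]; exact h1
  have hRge : p ^ 2 ≤ Nat.card R := by
    have hinj : Function.Injective (fun ij : Fin p × Fin p =>
        (⟨g ^ (ij.1 : ℕ) * k ^ (ij.2 : ℕ), mul_mem (pow_mem hgR _) (pow_mem hkR _)⟩ : R)) := by
      rintro ⟨i, j⟩ ⟨i', j'⟩ hij
      have hv := congrArg Subtype.val hij
      simp only at hv
      have h1 : g ^ ((i : ℤ) - i') = k ^ ((j' : ℤ) - j) := by
        calc g ^ ((i : ℤ) - i')
            = (g ^ (i' : ℕ))⁻¹ * (g ^ (i : ℕ) * k ^ (j : ℕ)) * (k ^ (j : ℕ))⁻¹ := by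
              rw [mul_assoc, mul_inv_cancel_right, ← zpow_natCast g (i' : ℕ),
                ← zpow_natCast g (i : ℕ), ← zpow_neg, ← zpow_add, neg_add_eq_sub]
          _ = (g ^ (i' : ℕ))⁻¹ * (g ^ (i' : ℕ) * k ^ (j' : ℕ)) * (k ^ (j : ℕ))⁻¹ := by rw [hv]
          _ = k ^ ((j' : ℤ) - j) := by
              rw [inv_mul_cancel_left, zpow_sub, zpow_natCast, zpow_natCast]
      have hi : (i : ℕ) = i' := by
        by_contra hne
        have hnd : ¬ (p : ℤ) ∣ ((i : ℤ) - i') := by
          intro hd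
          have h2 := Int.eq_zero_of_abs_lt_dvd hd (by
            rw [abs_lt]; constructor <;> omega)
          omega
        refine hgk_not ?_
        have hz : zpowers (g ^ ((i : ℤ) - i')) = zpowers g := by
          refine eq_of_le_of_card_ge (zpowers_le.mpr (zpow_mem (mem_zpowers g) _)) ?_
          rw [Nat.card_zpowers, Nat.card_zpowers, hgord]
          have hne1 : g ^ ((i : ℤ) - i') ≠ 1 := fun h1' => hnd (by
            have h2 := orderOf_dvd_iff_zpow_eq_one.mpr h1'
            rwa [hgord] at h2)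
          have hpp : (g ^ ((i : ℤ) - i')) ^ p = 1 := by
            rw [← zpow_natCast, ← zpow_mul, mul_comm, zpow_mul, zpow_natCast, hgp, one_zpow]
          rw [orderOf_eq_prime hpp hne1]
        rw [h1] at hz
        have hzk : zpowers g ≤ zpowers k := hz ▸ zpowers_le.mpr (zpow_mem (mem_zpowers k) _)
        have hz2 : zpowers g = zpowers k := eq_of_le_of_card_ge hzk (by
          rw [Nat.card_zpowers, Nat.card_zpowers, hgord, hkord])
        rw [hz2]; exact mem_zpowers k
      have hii : i = i' := Fin.ext hi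
      subst hii
      have h2 := mul_left_cancel hv
      refine Prod.ext rfl (Fin.ext ?_)
      exact pow_injOn_Iio_orderOf (by rw [hkord]; exact j.2) (by rw [hkord]; exact j'.2) h2
    have := Nat.card_le_card_of_injective _ hinj
    rwa [Nat.card_prod, Nat.card_fin, ← sq] at this
  have hRcard : Nat.card R = p ^ 2 := le_antisymm hRle hRge
  have hRp : IsPGroup p R := IsPGroup.of_card hRcard
  set FR : Finset Ω := Finset.univ.filter fun X => ∀ r ∈ R, r • X = X with hFR
  have memFR : ∀ {X}, X ∈ FR ↔ ∀ r ∈ R, r • X = X := fun {X} => by simp [FR]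
  have hAFR : A ∈ FR := memFR.mpr fun r hr => (memR.mp hr).1
  have hCFR : C ∈ FR := memFR.mpr fun r hr => (memR.mp hr).2.1
  have hFRp : p ∣ FR.card := by
    have h1 := hfixmod R hRp
    have h2 : Nat.card (fixedPoints R Ω) = FR.card := by
      rw [← Nat.card_eq_finsetCard]
      refine Nat.card_congr (Equiv.subtypeEquivRight fun X => ?_)
      rw [memFR]
      exact ⟨fun hX r hr => hX ⟨r, hr⟩, fun hX r => hX r.1 r.2⟩
    rw [h2] at h1
    exact Nat.modEq_zero_iff_dvd.mp (h1.symm.trans (Nat.modEq_zero_iff_dvd.mpr hpn))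
  -- at most `p` points
  have hFRle : FR.card ≤ p := by
    have hsel : ∀ X ∈ FR, ∃ i : Fin p, ∀ z ∈ D, pt z = X → Commute (k * g ^ (i : ℕ)) z := by
      intro X hX
      rw [memFR] at hX
      obtain ⟨x, hx, hpx⟩ := hB.surj X
      obtain ⟨i, hi⟩ := exists_conj_pow h.prime hgp (S := {d | d ∈ D ∧ pt d = X}) (hBlp X)
        (fun d hd => ⟨h.conj d hd.1 g, by rw [hB.equiv g d hd.1, hd.2, hX g hgR]⟩)
        (fun d hd => hgfree d hd.1) (d := x) (z := k⁻¹ * x * k) ⟨hx, hpx⟩
        ⟨by simpa using h.conj x hx k⁻¹, by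
          have := hB.equiv k⁻¹ x hx
          rw [inv_inv] at this
          rw [this, hpx, hX k⁻¹ (inv_mem hkR)]⟩
      refine ⟨⟨i % p, Nat.mod_lt _ h.prime.pos⟩, fun z hz hpz => ?_⟩
      have hgi : g ^ (i % p) = g ^ i := by rw [← hgord, pow_mod_orderOf]
      simp only [hgi]
      have hcx : Commute (k * g ^ i) x := by
        show k * g ^ i * x = x * (k * g ^ i)
        calc k * g ^ i * x = k * (g ^ i * x * (g ^ i)⁻¹) * g ^ i := by group
          _ = x * (k * g ^ i) := by rw [hi]; group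
      exact hfix _ X x hx hpx g (hX g hgR) hcx
        ((hgk.symm).mul_left ((Commute.refl g).pow_left i)) hgfree hgp z hz hpz
    choose f hf using hsel
    refine le_trans (Finset.card_le_card_of_injOn (t := (Finset.univ : Finset (Fin p)))
      (fun X => if hX : X ∈ FR then f X hX else ⟨0, h.prime.pos⟩) (fun _ _ => by simp) ?_)
      (by simp)
    intro X hX Y hY hXY
    rw [Finset.mem_coe] at hX hY
    simp only [dif_pos hX, dif_pos hY] at hXY
    by_contra hne
    obtain ⟨b0, hb0, b1, hb1, hb01⟩ := hexB X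
    rw [memBl] at hb0 hb1
    obtain ⟨cY, hcY, hpcY⟩ := hB.surj Y
    have hr1 : k * g ^ (f X hX : ℕ) ≠ 1 := fun hh => hgk_not (by
      rw [mul_eq_one_iff_eq_inv] at hh
      rw [hh]; exact inv_mem (pow_mem (mem_zpowers g) _))
    exact hr1 (h.no_triangle_centralized hB hb0.1 hb1.1 hcY hb01 (hb1.2.trans hb0.2.symm)
      (by rw [hpcY, hb0.2]; exact Ne.symm hne) (hf X hX _ hb0.1 hb0.2) (hf X hX _ hb1.1 hb1.2)
      (by rw [hXY]; exact hf Y hY _ hcY hpcY))
  -- an odd number on the one hand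
  have hFR2 : 2 ≤ FR.card := Finset.one_lt_card.mpr ⟨A, hAFR, C, hCFR, hAC⟩
  have hFRcard : FR.card = p := le_antisymm hFRle (Nat.le_of_dvd (by omega) hFRp)
  -- an even number on the other hand
  have hd₁R : ∀ r ∈ R, d₁ * r * d₁ ∈ R := by
    intro r hr
    obtain ⟨h1, h2, h3⟩ := memR.mp hr
    refine memR.mpr ⟨?_, ?_, ?_⟩
    · rw [mul_smul, mul_smul, hd₁'.2, h2, h.swap hB hd₁'.1 hd₁'.2]
    · rw [mul_smul, mul_smul, h.swap hB hd₁'.1 hd₁'.2, h1, hd₁'.2]
    · have h4 : d₁ * k = k⁻¹ * d₁ := by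
        rw [← hd₁k, mul_assoc, h.inv _ hd₁'.1, mul_one]
      have h4' : d₁ * k⁻¹ = k * d₁ := by
        rw [← hd₁k, ← mul_assoc, ← mul_assoc, h.inv _ hd₁'.1, one_mul]
      show d₁ * r * d₁ * k = k * (d₁ * r * d₁)
      calc d₁ * r * d₁ * k = d₁ * (r * k⁻¹) * d₁ := by rw [mul_assoc, h4]; simp [mul_assoc]
        _ = d₁ * (k⁻¹ * r) * d₁ := by rw [(h3.inv_right).eq]
        _ = k * (d₁ * r * d₁) := by rw [← mul_assoc, h4']; simp [mul_assoc]
  have heven : Even FR.card := by
    refine even_card_of_involution FR (fun X => d₁ • X) ?_ ?_ ?_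
    · intro X hX
      rw [memFR] at hX ⊢
      intro r hr
      have : r * d₁ = d₁ * (d₁ * r * d₁) := by
        simp [mul_assoc, mul_cancel (h.inv _ hd₁'.1)]
      rw [← mul_smul, this, mul_smul, hX _ (hd₁R r hr)]
    · intro X _
      rw [← mul_smul, h.inv _ hd₁'.1, one_smul]
    · intro X hX
      exact h.inverter_moves hB hd₁'.1 hkp hk1 hd₁k ((memFR.mp hX) k hkR)
  rw [hFRcard] at heven
  exact (Nat.not_even_iff_odd.mpr h.odd) heven

end MinCex

end Cfsg.Agent.H91.OddProd
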