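import Cfsg.Agent.H91.OddProd.Square
import Cfsg.Agent.H40.SupSolvable

/-!
In a minimal counterexample, two distinct commuting members have their product in the set.
-/

set_option autoImplicit false

namespace Cfsg.Agent.H91.OddProd

open Subgroup

namespace MinCex

variable {G : Type*} [Group G] [Finite G] {p : ℕ} {D : Set G} (h : MinCex p D)
include h

/-- A solvable subgroup of a normal subgroup `N`, normalized by `N`, is trivial. -/
theorem eq_bot_of_normalized {N W : Subgroup G} [hNn : N.Normal] (hW : W ≤ N)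
    (hn : ∀ n ∈ N, ∀ w ∈ W, n * w * n⁻¹ ∈ W) (hs : Group.IsSolvable W) : W = ⊥ := by
  classical
  haveI := Fintype.ofFinite G
  set f : G → Subgroup G := fun g => W.map (MulAut.conj g).toMonoidHom with hf
  have hmap : ∀ (A : Subgroup G), (∀ n ∈ N, ∀ w ∈ A, n * w * n⁻¹ ∈ A) → ∀ n ∈ N,
      A.map (MulAut.conj n).toMonoidHom ≤ A := by
    rintro A hA n hn' _ ⟨w, hw, rfl⟩
    exact hA n hn' w hw
  have hfN : ∀ g, f g ≤ N ∧ (∀ n ∈ N, (f g).map (MulAut.conj n).toMonoidHom ≤ f g) ∧
      Group.IsSolvable (f g) := by
    intro g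
    refine ⟨?_, ?_, ?_⟩
    · rintro _ ⟨w, hw, rfl⟩
      exact hNn.conj_mem w (hW hw) g
    · rintro n hn' _ ⟨_, ⟨w, hw, rfl⟩, rfl⟩
      refine ⟨g⁻¹ * n * g * w * (g⁻¹ * n * g)⁻¹, hn _ ?_ w hw, ?_⟩
      · simpa using hNn.conj_mem n hn' g⁻¹
      · simp [mul_assoc]
    · haveI := hs
      exact Group.isSolvable_of_surjective
        (f := (W.equivMapOfInjective (MulAut.conj g).toMonoidHom (MulAut.conj g).injective).toMonoidHom)
        (W.equivMapOfInjective (MulAut.conj g).toMonoidHom (MulAut.conj g).injective).surjective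
  have key : ∀ s : Finset G, s.sup f ≤ N ∧
      (∀ n ∈ N, (s.sup f).map (MulAut.conj n).toMonoidHom ≤ s.sup f) ∧
      Group.IsSolvable ↥(s.sup f) := by
    intro s
    induction s using Finset.induction with
    | empty =>
      rw [Finset.sup_empty]
      refine ⟨bot_le, fun n _ => by rw [Subgroup.map_bot], ?_⟩
      exact Group.isSolvable_of_comm fun a b => Subsingleton.elim _ _
    | insert g s hg ih =>
      rw [Finset.sup_insert]
      obtain ⟨i1, i2, i3⟩ := ih
      obtain ⟨j1, j2, j3⟩ := hfN g
      refine ⟨sup_le j1 i1, fun n hn' => by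
        rw [Subgroup.map_sup]; exact sup_le_sup (j2 n hn') (i2 n hn'), ?_⟩
      refine H40.isSolvable_sup ?_ j3 i3
      intro z hz
      rw [mem_normalizer_iff]
      intro w
      refine ⟨fun hw => j2 z (i1 hz) ⟨w, hw, rfl⟩, fun hw => ?_⟩
      have := j2 z⁻¹ (inv_mem (i1 hz)) ⟨_, hw, rfl⟩
      simpa [mul_assoc] using this
  obtain ⟨-, -, hsol⟩ := key Finset.univ
  have hWle : W ≤ (Finset.univ : Finset G).sup f := by
    refine le_trans ?_ (Finset.le_sup (f := f) (Finset.mem_univ 1))
    intro w hw
    exact ⟨w, hw, by simp⟩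
  have hnor : ((Finset.univ : Finset G).sup f).Normal := by
    constructor
    intro w hw k
    have hle : ((Finset.univ : Finset G).sup f).map (MulAut.conj k).toMonoidHom ≤
        (Finset.univ : Finset G).sup f := by
      rw [Subgroup.map_le_iff_le_comap, Finset.sup_le_iff]
      intro g _
      rw [← Subgroup.map_le_iff_le_comap]
      refine le_trans (le_of_eq ?_) (Finset.le_sup (f := f) (Finset.mem_univ (k * g)))
      rw [hf, Subgroup.map_map]
      congr 1
      ext z
      simp [mul_assoc]
    exact hle ⟨w, hw, rfl⟩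
  exact le_bot_iff.mp (hWle.trans (h.rad _ hnor hsol).le)

/-- Two distinct commuting members have their product in `D`. -/
theorem triangle {x a : G} (hx : x ∈ D) (ha : a ∈ D) (hxa : Commute x a) (hne : x ≠ a) :
    x * a ∈ D := by
  by_contra hu
  have hui : x * a * (x * a) = 1 := sq_of_commute (h.inv x hx) (h.inv a ha) hxa
  have hfix : ∀ d ∈ D, Commute (x * a * d * (x * a)) d := by
    intro d hd
    by_cases hdx : Commute d x
    · have hdu : Commute d (x * a) := hdx.mul_right (h.trans hx hd ha hdx hxa)
      rw [← hdu.eq, mul_assoc, hui, mul_one]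
    · have hda : ¬ Commute d a := fun hh => hdx (h.trans ha hd hx hh hxa.symm)
      exact (h.square hx ha hd hxa hne hu hdx hda).symm
  let N : Subgroup G :=
    { carrier := {g | ∀ d ∈ D, Commute (g * d * g⁻¹) d}
      one_mem' := fun d _ => by simp
      mul_mem' := by
        intro g k hg hk d hd
        have hd' := h.conj d hd k
        have h1 := hg _ hd'
        have h2 := h.trans hd' (h.conj _ hd' g) hd h1 (hk d hd)
        simpa [mul_assoc] using h2
      inv_mem' := by
        intro g hg d hd
        have hd' := h.conj d hd g⁻¹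
        have h1 := hg _ hd'
        simp only [inv_inv] at h1 ⊢
        rw [show g * (g⁻¹ * d * g) * g⁻¹ = d by group] at h1
        exact h1.symm }
  have hmemN : ∀ g, g ∈ N ↔ ∀ d ∈ D, Commute (g * d * g⁻¹) d := fun g => Iff.rfl
  haveI hNn : N.Normal := ⟨fun n hn k => by
    rw [hmemN] at hn ⊢
    intro d hd
    have h1 := (hn _ (h.conj d hd k⁻¹)).map (MulAut.conj k).toMonoidHom
    simpa [mul_assoc] using h1⟩
  have huN : x * a ∈ N := fun d hd => by rw [inv_self hui]; exact hfix d hd
  have hcent : ∀ z ∈ D, ∀ n ∈ N, Commute n z := by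
    intro z hz n hn
    set S := closure {d | d ∈ D ∧ Commute d z} with hS
    have hSab : Group.IsSolvable S := by
      have hle : S ≤ centralizer (S : Set G) := by
        refine (closure_le _).mpr fun d hd => ?_
        rw [SetLike.mem_coe, mem_centralizer_iff]
        intro w hw
        have : closure {d | d ∈ D ∧ Commute d z} ≤ centralizer ({d} : Set G) :=
          (closure_le _).mpr fun v hv => mem_centralizer_singleton_iff.mpr
            (h.trans hz hv.1 hd.1 hv.2 hd.2.symm).eq
        exact mem_centralizer_singleton_iff.mp (this hw)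
      exact Group.isSolvable_of_comm fun u v =>
        Subtype.ext ((mem_centralizer_iff.mp (hle v.2) u u.2))
    have hW : S ⊓ N = ⊥ := by
      refine h.eq_bot_of_normalized (N := N) inf_le_right (fun m hm w hw => ⟨?_, ?_⟩) ?_
      · have : S ≤ S.comap (MulAut.conj m).toMonoidHom := by
          refine (closure_le _).mpr fun d hd => ?_
          rw [SetLike.mem_coe, mem_comap]
          exact subset_closure ⟨h.conj d hd.1 m, h.trans hd.1 (h.conj d hd.1 m) hz
            ((hmemN m).mp hm d hd.1) hd.2⟩
        exact this hw.1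
      · exact hNn.conj_mem w hw.2 m
      · haveI := hSab
        exact Group.isSolvable_of_isSolvable_injective
          (f := inclusion (inf_le_left : S ⊓ N ≤ S)) (inclusion_injective _)
    have hzi := h.inv z hz
    have h1 : z * (n * z * n⁻¹) ∈ S ⊓ N := by
      refine ⟨mul_mem (subset_closure ⟨hz, Commute.refl z⟩)
        (subset_closure ⟨h.conj z hz n, (hmemN n).mp hn z hz⟩), ?_⟩
      have h2 := hNn.conj_mem n hn z
      rw [inv_self hzi] at h2
      simpa [mul_assoc] using mul_mem h2 (inv_mem hn)
    rw [hW, mem_bot, mul_eq_one_iff_eq_inv] at h1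
    have h2 : n * z * n⁻¹ = z := by rw [← inv_inj, ← h1, inv_self hzi]
    exact mul_inv_eq_iff_eq_mul.mp h2
  have h1 := h.eq_one_of_central fun d hd => hcent d hd _ huN
  exact hne (by rw [mul_eq_one_iff_eq_inv, inv_self (h.inv a ha)] at h1; exact h1)

end MinCex

end Cfsg.Agent.H91.OddProd
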