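import Cfsg.Agent.H91.OddProd.Tools

/-!
A minimal counterexample to "involutions with products of order `1`, `2`, `p` generate a solvable
group" (`p ≥ 5`): commuting is transitive on the involution set.
-/

set_option autoImplicit false

namespace Cfsg.Agent.H91.OddProd

open Subgroup

/-- A minimal counterexample. -/
structure MinCex (p : ℕ) {G : Type*} [Group G] (D : Set G) : Prop where
  prime : p.Prime
  five : 5 ≤ p
  inv : ∀ d ∈ D, d * d = 1
  ne_one : ∀ d ∈ D, d ≠ 1
  conj : ∀ d ∈ D, ∀ g : G, g * d * g⁻¹ ∈ D
  cls : ∀ a ∈ D, ∀ b ∈ D, IsConj a b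
  prod : ∀ a ∈ D, ∀ b ∈ D, Commute a b ∨ (a * b) ^ p = 1
  gen : closure D = ⊤
  sub : ∀ E ⊆ D, closure E ≠ ⊤ → Group.IsSolvable (closure E)
  rad : ∀ N : Subgroup G, N.Normal → Group.IsSolvable N → N = ⊥
  nonab : ∃ a ∈ D, ∃ b ∈ D, ¬ Commute a b

namespace MinCex

variable {G : Type*} [Group G] [Finite G] {p : ℕ} {D : Set G} (h : MinCex p D)
include h

theorem odd : Odd p := h.prime.odd_of_ne_two (by have := h.five; omega)

theorem pow_of_not {a b : G} (ha : a ∈ D) (hb : b ∈ D) (hn : ¬ Commute a b) : (a * b) ^ p = 1 :=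
  (h.prod a ha b hb).resolve_left hn

theorem conj_self {a b : G} (ha : a ∈ D) (hb : b ∈ D) : b * a * b ∈ D := by
  have := h.conj a ha b
  rwa [inv_self (h.inv b hb)] at this

theorem eq_one_of_central {z : G} (hz : ∀ d ∈ D, Commute z d) : z = 1 := by
  have hzc : z ∈ center G := by
    rw [mem_center_iff]
    intro g
    have hg : g ∈ closure D := h.gen ▸ mem_top g
    have : closure D ≤ centralizer ({z} : Set G) := (closure_le _).mpr fun d hd =>
      mem_centralizer_singleton_iff.mpr (hz d hd).symm.eq
    exact mem_centralizer_singleton_iff.mp (this hg)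
  haveI : Group.IsSolvable (center G) := Group.isSolvable_of_comm fun u v =>
    Subtype.ext (mem_center_iff.mp v.2 u)
  rwa [h.rad (center G) inferInstance ‹_›, mem_bot] at hzc

theorem proper_of_commute {E : Set G} {s : G} (hs : s ≠ 1) (hE : ∀ e ∈ E, Commute s e) :
    closure E ≠ ⊤ := by
  intro htop
  refine hs (h.eq_one_of_central fun d _ => ?_)
  have : closure E ≤ centralizer ({s} : Set G) := (closure_le _).mpr fun e he =>
    mem_centralizer_singleton_iff.mpr (hE e he).symm.eq
  exact (mem_centralizer_singleton_iff.mp (this (htop ▸ mem_top d))).symm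

theorem false_quad {a c d y : G} (ha : a ∈ D) (hc : c ∈ D) (hd : d ∈ D) (hy : y ∈ D)
    (hac : Commute a c) (had : Commute a d) (hay : ¬ Commute a y) (hcy : ¬ Commute c y)
    (hdy : ¬ Commute d y) (hs : Commute (a * c * d) y)
    (hne : closure ({a, c, d, y} : Set G) ≠ ⊤) : False := by
  have hsub : ({a, c, d, y} : Set G) ⊆ D := by
    rintro w (rfl | rfl | rfl | rfl) <;> assumption
  haveI := h.sub _ hsub hne
  set K := closure ({a, c, d, y} : Set G) with hK
  have ma : a ∈ K := subset_closure (by simp)
  have mc : c ∈ K := subset_closure (by simp)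
  have md : d ∈ K := subset_closure (by simp)
  have my : y ∈ K := subset_closure (by simp)
  refine false_of_triple (K := K) (p := p) h.odd (a := ⟨a, ma⟩) (c := ⟨c, mc⟩) (d := ⟨d, md⟩)
    (y := ⟨y, my⟩) (Subtype.ext (h.inv a ha)) (Subtype.ext (h.inv c hc))
    (Subtype.ext (h.inv d hd)) (Subtype.ext (h.inv y hy)) (Subtype.ext hac.eq)
    (Subtype.ext had.eq) (fun hh => hay (congrArg Subtype.val hh.eq)) ?_ ?_ ?_
    (Subtype.ext hs.eq) ?_
  · exact Subtype.ext (by simpa using h.pow_of_not ha hy hay)
  · exact Subtype.ext (by simpa using h.pow_of_not hc hy hcy)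
  · exact Subtype.ext (by simpa using h.pow_of_not hd hy hdy)
  · apply map_injective K.subtype_injective
    rw [MonoidHom.map_closure, ← MonoidHom.range_eq_map, range_subtype]
    simp [Set.image_insert_eq, hK]

/-- An element commuting with a product of two commuting members commutes with both. -/
theorem commute_left {x a d : G} (hx : x ∈ D) (ha : a ∈ D) (hd : d ∈ D) (hxa : Commute x a)
    (hne : x ≠ a) (hdu : Commute d (x * a)) : Commute d x := by
  by_contra hn
  have hxi := h.inv x hx
  have hai := h.inv a ha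
  have hdi := h.inv d hd
  have hda : ¬ Commute d a := fun hh => hn (by
    have := hdu.mul_right hh
    rwa [mul_assoc, hai, mul_one] at this)
  have hconj : x * d * x = a * d * a := by
    calc x * d * x = x * (d * (x * a)) * a := by simp [mul_assoc, hai, mul_cancel hai]
      _ = x * ((x * a) * d) * a := by rw [hdu.eq]
      _ = a * d * a := by rw [← mul_assoc, ← mul_assoc, hxi, one_mul]
  have hsq : (d * x) ^ 2 = (d * a) ^ 2 := by
    rw [sq, sq, mul_assoc, ← mul_assoc x, hconj]; simp [mul_assoc]
  obtain ⟨k, hk⟩ := h.odd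
  have key : ∀ w : G, (d * w) ^ p = 1 → ((d * w) ^ 2) ^ (k + 1) = d * w := fun w hw => by
    rw [← pow_mul, show 2 * (k + 1) = p + 1 by omega, pow_succ, hw, one_mul]
  have : d * x = d * a := by
    rw [← key x (h.pow_of_not hd hx hn), hsq, key a (h.pow_of_not hd ha hda)]
  exact hne (mul_left_cancel this)

theorem commute_right {x a d : G} (hx : x ∈ D) (ha : a ∈ D) (hd : d ∈ D) (hxa : Commute x a)
    (hne : x ≠ a) (hdu : Commute d (x * a)) : Commute d a :=
  h.commute_left ha hx hd hxa.symm hne.symm (by rwa [hxa.symm.eq])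

/-- For `u = x a` and `e` commuting with neither, `u e u` commutes with `e`. -/
theorem square {x a e : G} (hx : x ∈ D) (ha : a ∈ D) (he : e ∈ D) (hxa : Commute x a)
    (hne : x ≠ a) (hu : x * a ∉ D) (hex : ¬ Commute e x) (hea : ¬ Commute e a) :
    Commute e (x * a * e * (x * a)) := by
  have hxi := h.inv x hx
  have hai := h.inv a ha
  have hei := h.inv e he
  set u := x * a with hudef
  have hui : u * u = 1 := sq_of_commute hxi hai hxa
  have he' : u * e * u ∈ D := by
    have := h.conj e he u
    rwa [inv_self hui] at this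
  by_contra hn
  have hp1 := h.pow_of_not he' he (fun hh => hn hh.symm)
  set s := (u * e) ^ p with hs
  have hss : s * s = 1 := by
    rw [hs, ← (Commute.refl (u * e)).mul_pow, ← hp1]
    simp [mul_assoc]
  have hse : Commute e s := by
    have h1 : e * s * e = (e * u) ^ p := by
      rw [hs, ← inv_self hei]
      conv_lhs => rw [inv_self hei]
      rw [show e * (u * e) ^ p * e = e * (u * e) ^ p * e⁻¹ by rw [inv_self hei], ← conj_pow]
      simp [mul_assoc, inv_self hei, hei, mul_cancel hei]
    have h2 : (e * u) ^ p = s := by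
      rw [← mul_inv_flip hui hei, inv_pow, ← hs, inv_self hss]
    have h3 : e * s * e = s := h1.trans h2
    calc e * s = e * s * e * e := by rw [mul_assoc (e * s), hei, mul_one]
      _ = s * e := by rw [h3]
  have hsu : Commute u s := by
    have h1 : Commute s (u * e) := (Commute.refl _).pow_left p
    have h2 := h1.mul_right hse.symm
    rw [mul_assoc, hei, mul_one] at h2
    exact h2.symm
  obtain ⟨k, hk⟩ := h.odd
  have hwD : u * s ∈ D := by
    have h1 : u * s = ((u * e) ^ k)⁻¹ * e * (u * e) ^ k := by
      have hsc : SemiconjBy e ((u * e) ^ k) ((e * u) ^ k) :=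
        (show SemiconjBy e (u * e) (e * u) from (mul_assoc e u e).symm).pow_right k
      rw [hs, hk, show 2 * k + 1 = 1 + (k + k) by ring, pow_add, pow_one, ← mul_assoc,
        ← mul_assoc, hui, one_mul, pow_add, ← mul_assoc, ← inv_pow, mul_inv_flip hui hei, hsc.eq]
    rw [h1]
    simpa using h.conj e he ((u * e) ^ k)⁻¹
  have hs1 : s ≠ 1 := fun hh => hu (by rwa [hh, mul_one] at hwD)
  set w := u * s with hw
  have huw : Commute u w := (Commute.refl u).mul_right hsu
  have hwx : Commute w x := h.commute_left hx ha hwD hxa hne huw.symm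
  have hwa : Commute w a := h.commute_right hx ha hwD hxa hne huw.symm
  have hus : u * w = s := by rw [hw, ← mul_assoc, hui, one_mul]
  have hwe : ¬ Commute w e := by
    intro hh
    have hue : Commute e u := by
      have h1 : Commute e (w * s) := hh.symm.mul_right hse
      rwa [hw, mul_assoc, hss, mul_one] at h1
    exact hex (h.commute_left hx ha he hxa hne hue)
  have hsw : Commute s w := by rw [← hus]; exact huw.mul_left (Commute.refl w)
  have hsx : Commute s x := by
    rw [← hus]; exact (((Commute.refl x).mul_right hxa).symm).mul_left hwx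
  have hsa : Commute s a := by
    rw [← hus]; exact ((hxa.symm.mul_right (Commute.refl a)).symm).mul_left hwa
  refine h.false_quad hx ha hwD he hxa hwx.symm (fun hh => hex hh.symm) (fun hh => hea hh.symm)
    hwe ?_ (h.proper_of_commute hs1 ?_)
  · show Commute (u * w) e
    rw [hus]; exact hse.symm
  · rintro z (rfl | rfl | rfl | rfl)
    exacts [hsx, hsa, hsw, hse.symm]

/-- Two further members with the same product. -/
theorem exists_quad {x a e : G} (hx : x ∈ D) (ha : a ∈ D) (he : e ∈ D) (hxa : Commute x a)
    (hne : x ≠ a) (hu : x * a ∉ D) (hex : ¬ Commute e x) (hea : ¬ Commute e a) :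
    ∃ c ∈ D, ∃ d ∈ D, Commute c x ∧ Commute c a ∧ Commute d x ∧ Commute d a ∧ Commute c d ∧
      c ≠ a ∧ d ≠ a ∧ x * a = c * d := by
  have hxi := h.inv x hx
  have hai := h.inv a ha
  have hei := h.inv e he
  set u := x * a with hudef
  have hui : u * u = 1 := sq_of_commute hxi hai hxa
  have hxu : Commute x u := (Commute.refl x).mul_right hxa
  set g := x * e with hgdef
  have hgp : g ^ p = 1 := h.pow_of_not hx he (fun hh => hex hh.symm)
  have hxg : x * g * x = g⁻¹ := by
    rw [hgdef, mul_inv_flip hxi hei]; simp [← mul_assoc, hxi, mul_cancel hxi]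
  set v : G := g * u * g⁻¹ with hvdef
  set v' : G := g⁻¹ * u * g with hv'def
  have hv : v * v = 1 := by rw [hvdef]; simp [mul_assoc, hui, mul_cancel hui]
  have hv' : v' * v' = 1 := by rw [hv'def]; simp [mul_assoc, hui, mul_cancel hui]
  have hxv : x * v * x = v' := by
    have h1 : x * g⁻¹ * x = g := by rw [← hxg]; simp [mul_assoc, hxi, mul_cancel hxi]
    calc x * v * x = (x * g * x) * (x * u * x) * (x * g⁻¹ * x) := by
          rw [hvdef]; simp [mul_assoc, hxi, mul_cancel hxi]
      _ = g⁻¹ * u * g := by rw [hxg, h1, hxu.eq, mul_assoc u, hxi, mul_one]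
  -- `u` commutes with `v'`
  have hsq1 : Commute u v' := by
    refine commute_of_sq hui hv' ?_
    have h1 := sq_of_commute hei (by
      show u * e * u * (u * e * u) = 1
      simp [mul_assoc, hui, mul_cancel hui, hei, mul_cancel hei]) (h.square hx ha he hxa hne hu hex hea)
    have he2 : e * u * e = v' := by
      rw [hv'def, hgdef, mul_inv_flip hxi hei]
      rw [show e * x * u * (x * e) = e * (x * u * x) * e by simp [mul_assoc], hxu.eq,
        mul_assoc u, hxi, mul_one]
    rw [← he2]
    calc u * (e * u * e) * (u * (e * u * e)) = (u * e * u * e) * (u * e * u * e) := by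
          simp [mul_assoc]
      _ = ((e * (u * e * u)) * (e * (u * e * u)))⁻¹ := by
          simp [mul_inv_rev, inv_self hui, inv_self hei, mul_assoc]
      _ = 1 := by rw [h1, inv_one]
  -- `v` commutes with `v'`
  have hexe : e * x * e ∈ D := h.conj_self hx he
  have hg2 : x * (e * x * e) = g * g := by simp [hgdef, mul_assoc]
  have hg_ne : g ≠ 1 := fun hh => hex (by
    rw [hgdef, mul_eq_one_iff_eq_inv, inv_self hei] at hh
    rw [hh])
  have hgg_ne : g * g ≠ 1 := fun hh => hg_ne (eq_one_of_pow_of_sq h.odd hh hgp)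
  have hcx : ¬ Commute (e * x * e) x := by
    intro hh
    have h1 := sq_of_commute hxi (h.inv _ hexe) hh.symm
    rw [hg2] at h1
    exact hgg_ne (eq_one_of_pow_of_sq h.odd h1 (by rw [← sq, ← pow_mul, mul_comm, pow_mul, hgp,
      one_pow]))
  obtain ⟨k, hk⟩ := h.odd
  have hroot : ∀ {w : G}, Commute w (g * g) → Commute w g := by
    intro w hw
    have h2 := hw.pow_right (k + 1)
    rwa [← sq, ← pow_mul, show 2 * (k + 1) = p + 1 by omega, pow_succ, hgp, one_mul] at h2
  have hca : ¬ Commute (e * x * e) a := by
    intro hh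
    have h1 : Commute a g := hroot (by rw [← hg2]; exact hxa.symm.mul_right hh.symm)
    have h2 := hxa.symm.mul_right h1
    rw [hgdef, ← mul_assoc, hxi, one_mul] at h2
    exact hea h2.symm
  have hsq2 : Commute u (g * g * u * (g * g)⁻¹) := by
    refine commute_of_sq hui (by simp [mul_assoc, hui, mul_cancel hui]) ?_
    have h1 := sq_of_commute (h.inv _ hexe) (by
      show u * (e * x * e) * u * (u * (e * x * e) * u) = 1
      simp [mul_assoc, hui, mul_cancel hui, hei, hxi, mul_cancel hei, mul_cancel hxi]) (h.square hx ha hexe hxa hne hu hcx hca)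
    have he2 : (e * x * e) * u * (e * x * e) = (g * g)⁻¹ * u * (g * g) := by
      rw [← hg2, mul_inv_flip hxi (h.inv _ hexe),
        show e * x * e * x * u * (x * (e * x * e)) = e * x * e * (x * u * x) * (e * x * e) by
          simp [mul_assoc],
        hxu.eq, mul_assoc u x x, hxi, mul_one]
    have h2 : Commute u ((g * g)⁻¹ * u * (g * g)) := by
      refine commute_of_sq hui (by simp [mul_assoc, hui, mul_cancel hui]) ?_
      rw [← he2]
      generalize e * x * e = f at h1 ⊢
      have hfi : f * f = 1 ∨ True := Or.inr trivial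
      calc u * (f * u * f) * (u * (f * u * f)) = (u * f * u * f) * (u * f * u * f) := by
            simp [mul_assoc]
        _ = f⁻¹ * ((f * (u * f * u)) * (f * (u * f * u))) * f := by simp [mul_assoc]
        _ = 1 := by rw [h1]; simp
    have h3 := h2.map (MulAut.conj (g * g)).toMonoidHom
    simp only [MulEquiv.toMonoidHom_eq_coe, MonoidHom.coe_coe, MulAut.conj_apply] at h3
    have h4 : g * g * ((g * g)⁻¹ * u * (g * g)) * (g * g)⁻¹ = u := by group
    rw [h4] at h3
    exact sq_of_commute hui (by simp [mul_assoc, hui, mul_cancel hui]) h3.symm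
  have hvv : Commute v' v := by
    have h3 := hsq2.map (MulAut.conj g⁻¹).toMonoidHom
    simp only [MulEquiv.toMonoidHom_eq_coe, MonoidHom.coe_coe, MulAut.conj_apply, inv_inv] at h3
    have h4 : g⁻¹ * (g * g * u * (g * g)⁻¹) * g = v := by rw [hvdef]; group
    rwa [h4, ← hv'def] at h3
  have huv : Commute u v := by
    have h3 := hsq1.map (MulAut.conj g).toMonoidHom
    simp only [MulEquiv.toMonoidHom_eq_coe, MonoidHom.coe_coe, MulAut.conj_apply] at h3
    have h4 : g * v' * g⁻¹ = u := by rw [hv'def]; group
    rw [h4, ← hvdef] at h3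
    exact h3.symm
  -- the two new members
  have hcD : v * x * v ∈ D := by
    have := h.conj x hx v
    rwa [inv_self hv] at this
  have hdD : v * a * v ∈ D := by
    have := h.conj a ha v
    rwa [inv_self hv] at this
  have hcd : v * x * v * (v * a * v) = u := by
    calc v * x * v * (v * a * v) = v * u * v := by
          rw [hudef]; simp [mul_assoc]; rw [← mul_assoc v v, hv, one_mul]
      _ = u := by rw [← huv.eq, mul_assoc, hv, mul_one]
  have hcdc : Commute (v * x * v) (v * a * v) := by
    have := hxa.map (MulAut.conj v).toMonoidHom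
    simpa [inv_self hv] using this
  have hxvxv : v * x * v * x = v * v' := by
    rw [← hxv]; simp [mul_assoc]
  have hcx' : Commute (v * x * v) x := by
    refine commute_of_sq (h.inv _ hcD) hxi ?_
    rw [hxvxv]
    exact sq_of_commute hv hv' hvv.symm
  have hcu : Commute (v * x * v) u := by
    rw [← hcd]; exact (Commute.refl _).mul_right hcdc
  have hca' : Commute (v * x * v) a := h.commute_right hx ha hcD hxa hne hcu
  have hdu : Commute (v * a * v) u := by
    rw [← hcd]; exact hcdc.symm.mul_right (Commute.refl _)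
  have hd2 : v * a * v = u * (v * x * v) := by
    calc v * a * v = v * x * v * (v * x * v * (v * a * v)) :=
          (mul_cancel (h.inv _ hcD) _).symm
      _ = v * x * v * u := by rw [hcd]
      _ = u * (v * x * v) := hcu.eq
  have hdx' : Commute (v * a * v) x := by
    rw [hd2]; exact hxu.symm.mul_left hcx'
  have hda' : Commute (v * a * v) a := h.commute_right hx ha hdD hxa hne hdu
  -- non-degeneracy
  have hug : ¬ Commute u g := by
    intro hh
    refine hex (h.commute_left hx ha he hxa hne ?_)
    have h1 := hxu.symm.mul_right hh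
    rw [hgdef, ← mul_assoc, hxi, one_mul] at h1
    exact h1.symm
  have hd_ne : v * a * v ≠ a := by
    intro hh
    have h0 : v * x * v = x := by
      have h1 := hcd
      rw [hh] at h1
      exact mul_right_cancel h1
    have h1 : v' = v := by rw [← hxv]; nth_rewrite 1 [← h0]; simp [mul_assoc, hv, hxi, mul_cancel hv, mul_cancel hxi]
    refine hug (hroot ?_)
    have h2 : g * g * u = u * (g * g) := by
      calc g * g * u = g * (g * u * g⁻¹) * g := by group
        _ = g * v' * g := by rw [← hvdef, h1]
        _ = u * (g * g) := by rw [hv'def]; group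
    exact h2.symm
  have hc_ne : v * x * v ≠ a := by
    intro hh
    have h1 : v * v' = u := by
      rw [← hxvxv, hh, hudef, hxa.eq]
    -- `v' = u v` and `g g u (g g)⁻¹ = v u`
    have h2 : v' = v * u := by rw [← h1, ← mul_assoc, hv, one_mul]
    have h3 : g * g * u * (g * g)⁻¹ * u = v := by
      calc g * g * u * (g * g)⁻¹ * u = g * (v * v') * g⁻¹ := by rw [hvdef, hv'def]; group
        _ = v := by rw [h1]
    have h4 : g * g * u * (g * g)⁻¹ = v' := by
      calc g * g * u * (g * g)⁻¹ = g * g * u * (g * g)⁻¹ * u * u := by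
            rw [mul_assoc _ u u, hui, mul_one]
        _ = v * u := by rw [h3]
        _ = v' := h2.symm
    have h5 : Commute (g * g * g) u := by
      calc g * g * g * u = g * (g * g * u * (g * g)⁻¹) * (g * g) := by group
        _ = g * v' * (g * g) := by rw [h4]
        _ = u * (g * g * g) := by rw [hv'def]; group
    refine hug ?_
    have h6 : Commute u (g ^ 3) := by
      rw [pow_succ, sq]; exact h5.symm
    have hcop : Nat.Coprime 3 p := by
      refine (Nat.coprime_primes Nat.prime_three h.prime).mpr ?_
      have := h.five; omega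
    obtain ⟨j, hj⟩ := exists_pow_eq_self_of_coprime (x := g) (n := 3)
      (hcop.coprime_dvd_right (orderOf_dvd_of_pow_eq_one hgp))
    rw [← hj]
    exact h6.pow_right j
  exact ⟨_, hcD, _, hdD, hcx', hca', hdx', hda', hcdc, hc_ne, hd_ne, hcd.symm⟩

/-- A member commuting with `x` commutes with `a`, if some member commutes with neither. -/
theorem mono {x a e y : G} (hx : x ∈ D) (ha : a ∈ D) (he : e ∈ D) (hy : y ∈ D)
    (hxa : Commute x a) (hne : x ≠ a) (hex : ¬ Commute e x) (hea : ¬ Commute e a)
    (hyx : Commute y x) : Commute y a := by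
  by_cases hu : x * a ∈ D
  · -- `x = a u`
    have hne' : a ≠ x * a := fun hh => h.ne_one x hx (by simpa using hh.symm)
    refine h.commute_left ha hu hy (hxa.symm.mul_right (Commute.refl a)) hne' ?_
    rwa [← mul_assoc, ← hxa.eq, mul_assoc, h.inv a ha, mul_one]
  by_contra hya
  obtain ⟨c, hc, d, hd, hcx, hca, hdx, hda, hcd, hc_ne, hd_ne, hprod⟩ :=
    h.exists_quad hx ha he hxa hne hu hex hea
  have hai := h.inv a ha
  have hci := h.inv c hc
  have hdi := h.inv d hd
  have hx_eq : x = a * c * d := by
    rw [mul_assoc, ← hprod, hxa.eq, ← mul_assoc, hai, one_mul]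
  have hyc : ¬ Commute y c := fun hh => by
    have h1 : Commute y (a * d) := by
      have h2 := hyx.mul_right hh
      rwa [hx_eq, mul_assoc (a * c), ← hcd.eq, ← mul_assoc, mul_assoc a c c, hci, mul_one] at h2
    exact hya (h.commute_left ha hd hy hda.symm hd_ne.symm h1)
  have hyd : ¬ Commute y d := fun hh => by
    have h1 : Commute y (a * c) := by
      have h2 := hyx.mul_right hh
      rwa [hx_eq, mul_assoc (a * c), hdi, mul_one] at h2
    exact hya (h.commute_left ha hc hy hca.symm hc_ne.symm h1)
  refine h.false_quad ha hc hd hy hca.symm hda.symm (fun hh => hya hh.symm) (fun hh => hyc hh.symm)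
    (fun hh => hyd hh.symm) (hx_eq ▸ hyx.symm) (h.proper_of_commute (h.ne_one x hx) ?_)
  rintro z (rfl | rfl | rfl | rfl)
  exacts [hxa, hcx.symm, hdx.symm, hyx.symm]

theorem dichot {x a : G} (hx : x ∈ D) (ha : a ∈ D) (hxa : Commute x a) (hne : x ≠ a) :
    (∀ d ∈ D, Commute d x ∨ Commute d a) ∨ (∀ y ∈ D, Commute y x ↔ Commute y a) := by
  by_cases hh : ∃ e ∈ D, ¬ Commute e x ∧ ¬ Commute e a
  · obtain ⟨e, he, hex, hea⟩ := hh
    exact Or.inr fun y hy => ⟨h.mono hx ha he hy hxa hne hex hea,
      h.mono ha hx he hy hxa.symm hne.symm hea hex⟩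
  · left
    intro d hd
    by_contra hd2
    rw [not_or] at hd2
    exact hh ⟨d, hd, hd2⟩

/-- Commuting is transitive on `D`. -/
theorem trans {x y a : G} (hx : x ∈ D) (hy : y ∈ D) (ha : a ∈ D) (hyx : Commute y x)
    (hxa : Commute x a) : Commute y a := by
  by_cases hne : x = a
  · rwa [← hne]
  by_contra hya
  have hall : ∀ d ∈ D, Commute d x ∨ Commute d a :=
    (h.dichot hx ha hxa hne).resolve_right fun hh => hya ((hh y hy).mp hyx)
  set P : Set G := {v | v ∈ D ∧ Commute v a ∧ v ≠ a ∧ ∀ d ∈ D, Commute d v ∨ Commute d a} with hP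
  have hstep : ∀ v ∈ P, ∀ v' ∈ D, ¬ Commute v v' → v' ∈ P := by
    rintro v ⟨hv, hva, hvne, hvall⟩ v' hv' hn
    have hv'a : Commute v' a := (hvall v' hv').resolve_left fun hh => hn hh.symm
    have hne' : v' ≠ a := fun hh => hn (hh ▸ hva)
    exact ⟨hv', hv'a, hne', (h.dichot hv' ha hv'a hne').resolve_right fun hh =>
      hn ((hh v hv).mpr hva)⟩
  have hPa : ∀ v ∈ closure P, Commute a v := by
    intro v hv
    have : closure P ≤ centralizer ({a} : Set G) := (closure_le _).mpr fun w hw =>
      mem_centralizer_singleton_iff.mpr hw.2.1.eq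
    exact (show Commute v a from mem_centralizer_singleton_iff.mp (this hv)).symm
  have hPn : (closure P).Normal := by
    refine normalizer_eq_top_iff.mp (top_le_iff.mp ?_)
    rw [← h.gen, closure_le]
    intro d hd
    rw [SetLike.mem_coe]
    have hstab : ∀ w ∈ closure P, d * w * d⁻¹ ∈ closure P := by
      intro w hw
      refine (closure_le ((closure P).comap (MulAut.conj d).toMonoidHom)).mpr ?_ hw
      intro v hv
      rw [SetLike.mem_coe, mem_comap]
      show d * v * d⁻¹ ∈ closure P
      by_cases hdv : Commute d v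
      · rw [hdv.eq, mul_inv_cancel_right]; exact subset_closure hv
      · have hdP := hstep v hv d hd fun hh => hdv hh.symm
        exact mul_mem (mul_mem (subset_closure hdP) (subset_closure hv))
          (inv_mem (subset_closure hdP))
    rw [mem_normalizer_iff]
    intro w
    refine ⟨hstab w, fun hw => ?_⟩
    have h1 := hstab _ hw
    rw [inv_self (h.inv d hd)] at h1
    simpa [mul_assoc, h.inv d hd, mul_cancel (h.inv d hd)] using h1
  have hne_top : closure P ≠ ⊤ := fun htop =>
    h.ne_one a ha (h.eq_one_of_central fun d _ => hPa d (htop ▸ mem_top d))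
  have hbot := h.rad _ hPn (h.sub P (fun v hv => hv.1) hne_top)
  have hxP : x ∈ closure P := subset_closure ⟨hx, hxa, hne, hall⟩
  rw [hbot, mem_bot] at hxP
  exact h.ne_one x hx hxP

end MinCex

end Cfsg.Agent.H91.OddProd
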