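import Mathlib

/-!
Involution sets whose products have order `1`, `2` or an odd number `p`: elementary lemmas, and the
key lemma on a solvable group generated by four such involutions.
-/

set_option autoImplicit false

namespace Cfsg.Agent.H91.OddProd

open Subgroup
open scoped commutatorElement

variable {G : Type*} [Group G] {a b : G} {p : ℕ}

theorem inv_self (ha : a * a = 1) : a⁻¹ = a := inv_eq_of_mul_eq_one_right ha

theorem mul_cancel (ha : a * a = 1) (z : G) : a * (a * z) = z := by
  rw [← mul_assoc, ha, one_mul]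

theorem mul_inv_flip (ha : a * a = 1) (hb : b * b = 1) : (a * b)⁻¹ = b * a := by
  rw [mul_inv_rev, inv_self ha, inv_self hb]

theorem pow_flip (ha : a * a = 1) (hb : b * b = 1) (h : (a * b) ^ p = 1) : (b * a) ^ p = 1 := by
  rw [← mul_inv_flip ha hb, inv_pow, h, inv_one]

theorem commute_of_sq (ha : a * a = 1) (hb : b * b = 1) (h : (a * b) * (a * b) = 1) :
    Commute a b := by
  have h2 : a * b = (a * b)⁻¹ := eq_inv_of_mul_eq_one_left h
  rw [mul_inv_flip ha hb] at h2
  exact h2

theorem sq_of_commute (ha : a * a = 1) (hb : b * b = 1) (h : Commute a b) :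
    (a * b) * (a * b) = 1 := by
  calc (a * b) * (a * b) = (a * b) * (b * a) := by rw [h.eq]
    _ = 1 := by rw [← mul_inv_flip ha hb, mul_inv_cancel]

theorem eq_one_of_pow_of_sq (hp : Odd p) {g : G} (h2 : g * g = 1) (h : g ^ p = 1) : g = 1 := by
  obtain ⟨k, rfl⟩ := hp
  rwa [pow_add, pow_mul, sq, h2, one_pow, one_mul, pow_one] at h

theorem eq_of_pow (hp : Odd p) (ha : a * a = 1) (hb : b * b = 1) (hc : Commute a b)
    (h : (a * b) ^ p = 1) : a = b := by
  have h1 := eq_one_of_pow_of_sq hp (sq_of_commute ha hb hc) h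
  rw [← mul_left_cancel_iff (a := a), ha, h1]

theorem mul_pow_flip (ha : a * a = 1) (hb : b * b = 1) (k : ℕ) :
    a * (a * b) ^ k = (b * a) ^ k * a := by
  refine SemiconjBy.pow_right ?_ k
  show a * (a * b) = b * a * a
  rw [← mul_assoc, ha, one_mul, mul_assoc, ha, mul_one]

/-- With `(a b)^p = 1`, `p` odd, the two involutions are conjugate by a power of `a b`. -/
theorem conj_of_pow (hp : Odd p) (ha : a * a = 1) (hb : b * b = 1) (h : (a * b) ^ p = 1) :
    b = ((a * b) ^ ((p + 1) / 2))⁻¹ * a * (a * b) ^ ((p + 1) / 2) := by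
  obtain ⟨k, rfl⟩ := hp
  rw [show (2 * k + 1 + 1) / 2 = k + 1 by omega, ← inv_pow, mul_inv_flip ha hb,
    ← mul_pow_flip ha hb, mul_assoc, ← pow_add, show k + 1 + (k + 1) = (2 * k + 1) + 1 by ring,
    pow_succ, h, one_mul, ← mul_assoc, ha, one_mul]

/-- A solvable group cannot be generated by three commuting involutions and a fourth one, with
all products with the fourth of odd order `p`, such that the product of the three is central. -/
theorem false_of_triple {K : Type*} [Group K] [Finite K] [Group.IsSolvable K] (hp : Odd p)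
    {a c d y : K} (ha : a * a = 1) (hc : c * c = 1) (hd : d * d = 1) (hy : y * y = 1)
    (hac : Commute a c) (had : Commute a d)
    (hay : ¬ Commute a y) (hayp : (a * y) ^ p = 1) (hcyp : (c * y) ^ p = 1)
    (hdyp : (d * y) ^ p = 1) (hs : Commute (a * c * d) y)
    (hgen : closure ({a, c, d, y} : Set K) = ⊤) : False := by
  haveI : (derivedSeries K 2).Normal := derivedSeries_normal K 2
  set q := QuotientGroup.mk' (derivedSeries K 2) with hq
  have hqs : Function.Surjective q := QuotientGroup.mk'_surjective _
  -- the commutator subgroup of the quotient is abelian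
  set E := commutator (K ⧸ derivedSeries K 2) with hE
  have hEmap : (commutator K).map q = E := by
    rw [hE, _root_.commutator_def, _root_.commutator_def, map_commutator, ← MonoidHom.range_eq_map,
      MonoidHom.range_eq_top.mpr hqs]
  have hEab : ∀ e ∈ E, ∀ f ∈ E, e * f = f * e := by
    have h0 : ⁅E, E⁆ = ⊥ := by
      rw [← hEmap, ← map_commutator, ← derivedSeries_one, ← derivedSeries_succ]
      rw [Subgroup.map_eq_bot_iff, QuotientGroup.ker_mk']
    intro e he f hf
    exact (mem_centralizer_iff.mp ((commutator_eq_bot_iff_le_centralizer.mp h0) hf)) e he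
  have hsq : ∀ {u : K}, u * u = 1 → q u * q u = 1 := fun hu => by rw [← map_mul, hu, map_one]
  have hpow : ∀ {u : K}, u ^ p = 1 → q u ^ p = 1 := fun hu => by rw [← map_pow, hu, map_one]
  -- products with `y` are commutators
  have hmem : ∀ {u : K}, u * u = 1 → (u * y) ^ p = 1 → q u * q y ∈ E := by
    intro u hu hup
    set h := (u * y) ^ ((p + 1) / 2)
    have hyu : y = h⁻¹ * u * h := conj_of_pow hp hu hy hup
    have : q u * q y = ⁅q u, (q h)⁻¹⁆ := by
      rw [commutatorElement_def, inv_inv, inv_self (hsq hu), hyu]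
      simp only [map_mul, map_inv, mul_assoc]
    rw [this, hE, _root_.commutator_def]
    exact commutator_mem_commutator (mem_top _) (mem_top _)
  -- exponent `p`
  let T : Subgroup (K ⧸ derivedSeries K 2) :=
    { carrier := {e | e ∈ E ∧ e ^ p = 1}
      one_mem' := ⟨one_mem _, one_pow _⟩
      mul_mem' := fun {e f} he hf => ⟨mul_mem he.1 hf.1, by
        rw [(show Commute e f from hEab e he.1 f hf.1).mul_pow, he.2, hf.2, one_mul]⟩
      inv_mem' := fun {e} he => ⟨inv_mem he.1, by rw [inv_pow, he.2, inv_one]⟩ }
  have hEn : E.Normal := by rw [hE]; infer_instance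
  haveI hTn : T.Normal := ⟨fun e he g =>
    ⟨hEn.conj_mem e he.1 g,
      by rw [conj_pow, he.2, mul_one, mul_inv_cancel]⟩⟩
  have hT : ∀ {u : K}, u * u = 1 → (u * y) ^ p = 1 → q u * q y ∈ T := fun hu hup =>
    ⟨hmem hu hup, by rw [← map_mul]; exact hpow hup⟩
  have hgenQ : closure ({q a, q c, q d, q y} : Set (K ⧸ derivedSeries K 2)) = ⊤ := by
    have := congrArg (Subgroup.map q) hgen
    rw [MonoidHom.map_closure, ← MonoidHom.range_eq_map, MonoidHom.range_eq_top.mpr hqs] at this
    rw [Set.image_insert_eq, Set.image_insert_eq, Set.image_insert_eq, Set.image_singleton] at this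
    exact this
  -- modulo `T` everything is a power of `y`
  have hET : E ≤ T := by
    set r := QuotientGroup.mk' T with hr
    have h1 : ∀ {u : K}, u * u = 1 → (u * y) ^ p = 1 → r (q u) = r (q y) := by
      intro u hu hup
      have h2 : r (q u * q y) = 1 := (QuotientGroup.eq_one_iff _).mpr (hT hu hup)
      rw [map_mul, mul_eq_one_iff_eq_inv, ← map_inv, inv_self (hsq hy)] at h2
      exact h2
    have h3 : ∀ z, r z ∈ zpowers (r (q y)) := by
      intro z
      have hz : z ∈ closure ({q a, q c, q d, q y} : Set (K ⧸ derivedSeries K 2)) :=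
        hgenQ ▸ mem_top _
      refine (closure_le ((zpowers (r (q y))).comap r)).mpr ?_ hz
      rintro w (rfl | rfl | rfl | rfl) <;> rw [SetLike.mem_coe, mem_comap]
      · rw [h1 ha hayp]; exact mem_zpowers _
      · rw [h1 hc hcyp]; exact mem_zpowers _
      · rw [h1 hd hdyp]; exact mem_zpowers _
      · exact mem_zpowers _
    rw [hE, _root_.commutator_def, commutator_le]
    intro z _ w _
    rw [← QuotientGroup.eq_one_iff]
    show r ⁅z, w⁆ = 1
    rw [map_commutatorElement, commutatorElement_eq_one_iff_mul_comm]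
    obtain ⟨i, hi⟩ := mem_zpowers_iff.mp (h3 z)
    obtain ⟨j, hj⟩ := mem_zpowers_iff.mp (h3 w)
    rw [← hi, ← hj, ← zpow_add, ← zpow_add, add_comm]
  -- the images of `a`, `c`, `d` coincide
  have heq : ∀ {u : K}, u * u = 1 → (u * y) ^ p = 1 → Commute a u → q a = q u := by
    intro u hu hup hau
    refine eq_of_pow hp (hsq ha) (hsq hu) (by rw [Commute, SemiconjBy, ← map_mul, ← map_mul, hau.eq]) ?_
    have hm : q a * q u ∈ E := by
      have := mul_mem (hmem ha hayp) (inv_mem (hmem hu hup))
      rwa [mul_inv_flip (hsq hu) (hsq hy), mul_assoc, ← mul_assoc (q y), hsq hy, one_mul] at this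
    exact (hET hm).2
  have hca := heq hc hcyp hac
  have hda := heq hd hdyp had
  have hay' : q a = q y := by
    refine eq_of_pow hp (hsq ha) (hsq hy) ?_ (by rw [← map_mul]; exact hpow hayp)
    have h := hs.map q
    rwa [map_mul, map_mul, ← hca, ← hda, hsq ha, one_mul] at h
  -- so the quotient is abelian
  have hle : commutator K ≤ derivedSeries K 2 := by
    have hE0 : E = ⊥ := by
      have h3 : ∀ z : K ⧸ derivedSeries K 2, z ∈ zpowers (q y) := by
        intro z
        have hz : z ∈ closure ({q a, q c, q d, q y} : Set (K ⧸ derivedSeries K 2)) :=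
          hgenQ ▸ mem_top _
        refine (closure_le (zpowers (q y))).mpr ?_ hz
        rw [← hca, ← hda, hay']
        intro w hw
        simp only [Set.mem_insert_iff, Set.mem_singleton_iff, or_self] at hw
        rw [hw]; exact mem_zpowers _
      rw [hE, _root_.commutator_def, eq_bot_iff, commutator_le]
      intro z _ w _
      rw [mem_bot, commutatorElement_eq_one_iff_mul_comm]
      obtain ⟨i, hi⟩ := mem_zpowers_iff.mp (h3 z)
      obtain ⟨j, hj⟩ := mem_zpowers_iff.mp (h3 w)
      rw [← hi, ← hj, ← zpow_add, ← zpow_add, add_comm]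
    rw [← hEmap, Subgroup.map_eq_bot_iff, QuotientGroup.ker_mk'] at hE0
    exact hE0
  have hstat : ∀ n, derivedSeries K 1 ≤ derivedSeries K (n + 1) := by
    intro n
    induction n with
    | zero => exact le_rfl
    | succ n ih =>
      rw [derivedSeries_succ K (n + 1)]
      calc derivedSeries K 1 = commutator K := derivedSeries_one K
        _ ≤ derivedSeries K 2 := hle
        _ = ⁅derivedSeries K 1, derivedSeries K 1⁆ := derivedSeries_succ K 1
        _ ≤ _ := commutator_mono ih ih
  obtain ⟨n, hn⟩ := (Group.isSolvable_def K).mp ‹_›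
  have h1 : commutator K = ⊥ := by
    rw [← derivedSeries_one, eq_bot_iff]
    refine (hstat n).trans ?_
    rw [derivedSeries_succ, hn]
    exact (commutator_bot_left _).le
  apply hay
  have : ⁅a, y⁆ ∈ commutator K := by
    rw [_root_.commutator_def]; exact commutator_mem_commutator (mem_top _) (mem_top _)
  rw [h1, mem_bot, commutatorElement_eq_one_iff_mul_comm] at this
  exact this

end Cfsg.Agent.H91.OddProd
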